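import Groth.Agent.S0508
import Groth.Agent.S0511
import Groth.Agent.QfHensFiniteLib.Basic
import Groth.Agent.NormalLib.KrullAkizuki
import Groth.Agent.HenselLib.EtaleLift
import Groth.Agent.PairHensLib.TensorHens
import Mathlib.RingTheory.DiscreteValuationRing.TFAE
import Mathlib.RingTheory.Ideal.KrullsHeightTheorem
import Mathlib.RingTheory.Etale.Field
import Mathlib.RingTheory.Filtration
import Mathlib.RingTheory.Unramified.Finite

/-!
# Henselian discrete valuation rings: unramified extensions, henselization, domination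
-/

set_option autoImplicit false
set_option linter.all false
set_option backward.isDefEq.respectTransparency false
set_option backward.isDefEq.respectTransparency.types false
set_option synthInstance.maxHeartbeats 400000
set_option maxHeartbeats 1000000

universe u

open IsLocalRing TensorProduct

noncomputable section

namespace HensDvrCdLib

/-- A noetherian local ring with maximal ideal generated by a non-zero-divisor is a DVR. -/
theorem isDomain_dvr (S : Type u) [CommRing S] [IsLocalRing S] [IsNoetherianRing S] (π : S)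
    (hmax : maximalIdeal S = Ideal.span {π}) (hreg : π ∈ nonZeroDivisors S) :
    ∃ _ : IsDomain S, IsDiscreteValuationRing S := by
  have hdec : ∀ x : S, x ≠ 0 → ∃ (n : ℕ) (v : Sˣ), x = π ^ n * v := fun x hx => by
    have h1 : ¬ ∀ n : ℕ, x ∈ maximalIdeal S ^ n := fun h => hx (by
      have : x ∈ (⨅ n : ℕ, maximalIdeal S ^ n) := Ideal.mem_iInf.2 h
      rwa [Ideal.iInf_pow_eq_bot_of_isLocalRing _ (maximalIdeal.isMaximal S).ne_top, Ideal.mem_bot] at this)
    classical
    push_neg at h1
    let n := Nat.find h1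
    have hn : x ∉ maximalIdeal S ^ n := Nat.find_spec h1
    obtain ⟨m, hm⟩ : ∃ m, n = m + 1 := ⟨n - 1, by
      have : n ≠ 0 := fun h0 => hn (by rw [h0, pow_zero, Ideal.one_eq_top]; trivial)
      omega⟩
    have hxm : x ∈ maximalIdeal S ^ m := not_not.1 (Nat.find_min h1 (show m < n by omega))
    rw [hmax, Ideal.span_singleton_pow, Ideal.mem_span_singleton] at hxm
    obtain ⟨c, rfl⟩ := hxm
    have hc : IsUnit c := by
      by_contra h
      refine hn ?_
      have hc' : c ∈ maximalIdeal S := h
      rw [hm, pow_succ]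
      exact Ideal.mul_mem_mul (Ideal.pow_mem_pow (hmax ▸ Ideal.mem_span_singleton_self π) m) hc'
    exact ⟨m, hc.unit, rfl⟩
  haveI : NoZeroDivisors S := ⟨fun {a b} hab => by
    by_contra! h
    obtain ⟨i, v, rfl⟩ := hdec a h.1
    obtain ⟨j, w, rfl⟩ := hdec b h.2
    have h2 : π ^ (i + j) * ((v * w : Sˣ) : S) = 0 := by rw [← hab, pow_add, Units.val_mul]; ring
    have h3 := (Units.mul_left_eq_zero (v * w)).1 h2
    exact zero_ne_one' S ((pow_mem hreg (i + j)).2 1 (by rw [one_mul, h3])).symm⟩
  haveI : IsDomain S := NoZeroDivisors.to_isDomain S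
  have hπ : π ≠ 0 := nonZeroDivisors.ne_zero hreg
  have hnf : ¬ IsField S := fun h => hπ (by
    have h1 : π ∈ maximalIdeal S := hmax ▸ Ideal.mem_span_singleton_self π
    rwa [IsLocalRing.isField_iff_maximalIdeal_eq.1 h, Ideal.mem_bot] at h1)
  exact ⟨inferInstance, ((IsDiscreteValuationRing.TFAE S hnf).out 0 4).2
    (by rw [hmax]; exact ⟨⟨π, rfl⟩⟩)⟩

/-- Unramified extensions of henselian DVRs. -/
theorem exists_unramified (R : Type u) [CommRing R] [IsDomain R] [IsDiscreteValuationRing R] [HenselianLocalRing R]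
    (L : Type u) [Field L] [Algebra (ResidueField R) L] [FiniteDimensional (ResidueField R) L]
    [Algebra.IsSeparable (ResidueField R) L] :
    ∃ (S : Type u) (_ : CommRing S) (_ : IsDomain S) (_ : IsDiscreteValuationRing S) (_ : HenselianLocalRing S)
      (_ : Algebra R S) (_ : Module.Finite R S), Function.Injective (algebraMap R S) ∧
      Nonempty (ResidueField S ≃+* L) := by
  letI : Field (R ⧸ IsLocalRing.maximalIdeal R) := Ideal.Quotient.field (IsLocalRing.maximalIdeal R)
  haveI : Algebra.FiniteType (ResidueField R) L := Module.Finite.finiteType L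
  haveI : Algebra.FormallyEtale (ResidueField R) L := Algebra.FormallyEtale.of_isSeparable (ResidueField R) L
  haveI : Algebra.Etale (ResidueField R) L :=
    { formallyEtale := inferInstance, finitePresentation := Algebra.FinitePresentation.of_finiteType.1 inferInstance }
  letI : Algebra (R ⧸ IsLocalRing.maximalIdeal R) L := inferInstanceAs (Algebra (ResidueField R) L)
  haveI : Module.Finite (R ⧸ IsLocalRing.maximalIdeal R) L := inferInstanceAs (Module.Finite (ResidueField R) L)
  haveI : Algebra.Etale (R ⧸ IsLocalRing.maximalIdeal R) L := inferInstanceAs (Algebra.Etale (ResidueField R) L)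
  letI : Algebra R L := ((algebraMap (R ⧸ IsLocalRing.maximalIdeal R) L).comp
    (algebraMap R (R ⧸ IsLocalRing.maximalIdeal R))).toAlgebra
  haveI : IsScalarTower R (R ⧸ IsLocalRing.maximalIdeal R) L := IsScalarTower.of_algebraMap_eq fun _ => rfl
  obtain ⟨S, _, _, hfin, het, ⟨e⟩⟩ := HenselLib.exists_finite_etale_lift (A := R) (I := IsLocalRing.maximalIdeal R) (C := L)
  let eS : S ⧸ (IsLocalRing.maximalIdeal R).map (algebraMap R S) ≃+* L :=
    (Algebra.TensorProduct.quotIdealMapEquivQuotTensor S (IsLocalRing.maximalIdeal R)).toRingEquiv.trans e.toRingEquiv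
  have hM : ((IsLocalRing.maximalIdeal R).map (algebraMap R S)).IsMaximal :=
    Ideal.Quotient.maximal_of_isField _ (MulEquiv.isField (Field.toIsField L) eS.toMulEquiv)
  haveI : Nontrivial S := by
    haveI := hM.ne_top
    by_contra h
    rw [not_nontrivial_iff_subsingleton] at h
    exact hM.ne_top (Subsingleton.elim _ _)
  have huniq : ∀ M : Ideal S, M.IsMaximal → M = (IsLocalRing.maximalIdeal R).map (algebraMap R S) := fun M hMx => by
    haveI := hMx
    have h1 : M.comap (algebraMap R S) = IsLocalRing.maximalIdeal R :=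
      IsLocalRing.eq_maximalIdeal (Ideal.isMaximal_comap_of_isIntegral_of_isMaximal M)
    exact (hM.eq_of_le hMx.ne_top (Ideal.map_le_iff_le_comap.2 h1.ge)).symm
  haveI : IsLocalRing S := IsLocalRing.of_unique_max_ideal ⟨_, hM, huniq⟩
  have hmaxS : maximalIdeal S = (IsLocalRing.maximalIdeal R).map (algebraMap R S) := huniq _ (maximalIdeal.isMaximal S)
  obtain ⟨hH, hloc⟩ := QfHensFiniteLib.henselianLocalRing_of_finite (A := R) S
  haveI := hH; haveI := hloc
  haveI : IsNoetherianRing S := isNoetherian_of_tower R inferInstance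
  haveI : Module.Flat R S := inferInstance
  obtain ⟨π, hπ⟩ := IsDiscreteValuationRing.exists_irreducible R
  have hmR : IsLocalRing.maximalIdeal R = Ideal.span {π} := hπ.maximalIdeal_eq
  have hreg : algebraMap R S π ∈ nonZeroDivisors S := by
    rw [mem_nonZeroDivisors_iff_right]
    intro x hx
    have h1 := Module.Flat.isSMulRegular_of_isRegular (M := S) (isRegular_of_ne_zero hπ.ne_zero)
    exact h1.right_eq_zero_of_smul (by rw [Algebra.smul_def, mul_comm]; exact hx)
  obtain ⟨hd, hv⟩ := isDomain_dvr S (algebraMap R S π) (by rw [hmaxS, hmR, Ideal.map_span, Set.image_singleton]) hreg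
  refine ⟨S, inferInstance, hd, hv, hH, inferInstance, hfin, ?_, ⟨?_⟩⟩
  · refine (injective_iff_map_eq_zero _).2 fun a ha => by_contra fun h0 => ?_
    obtain ⟨n, v, rfl⟩ := IsDiscreteValuationRing.eq_unit_mul_pow_irreducible h0 hπ
    rw [map_mul, map_pow] at ha
    have h2 : IsUnit (algebraMap R S (v : R)) := v.isUnit.map _
    exact pow_ne_zero n (nonZeroDivisors.ne_zero hreg) (h2.mul_right_eq_zero.1 ha)
  · exact (Ideal.quotEquivOfEq hmaxS).trans eS

/-- The henselization of a DVR. -/
theorem exists_henselization (V L : Type u) [CommRing V] [IsDomain V] [IsDiscreteValuationRing V]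
    [Field L] [Algebra V L] [IsFractionRing V L] :
    ∃ (H : Type u) (_ : CommRing H) (_ : IsDomain H) (_ : IsDiscreteValuationRing H) (_ : HenselianLocalRing H)
      (φ : L →+* FractionRing H), (letI := φ.toAlgebra; Algebra.IsAlgebraic L (FractionRing H)) ∧
      Nonempty (ResidueField V ≃+* ResidueField H) := by
  let H := HenselLib.HR V
  haveI hH : Hensel.IsHenselization V H := inferInstance
  haveI := hH.henselian
  haveI : IsNoetherianRing H := (Groth.Agent.S0511.result V H).1 inferInstance
  have hmax := PairHensLib.map_maximalIdeal_of_isHenselization V H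
  haveI : Module.Flat V H := HenselLib.flat_hens IsLocalRing.ker_residue
  obtain ⟨π, hπ⟩ := IsDiscreteValuationRing.exists_irreducible V
  have hreg : algebraMap V H π ∈ nonZeroDivisors H := by
    rw [mem_nonZeroDivisors_iff_right]
    intro x hx
    have h1 := Module.Flat.isSMulRegular_of_isRegular (M := H) (isRegular_of_ne_zero hπ.ne_zero)
    exact h1.right_eq_zero_of_smul (by rw [Algebra.smul_def, mul_comm]; exact hx)
  obtain ⟨hd, hv⟩ := isDomain_dvr H (algebraMap V H π)
    (by rw [← hmax, hπ.maximalIdeal_eq, Ideal.map_span, Set.image_singleton]) hreg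
  haveI := hd
  have hinj : Function.Injective (algebraMap V H) := (injective_iff_map_eq_zero _).2 fun a ha => by_contra fun h0 => by
    obtain ⟨n, v, rfl⟩ := IsDiscreteValuationRing.eq_unit_mul_pow_irreducible h0 hπ
    rw [map_mul, map_pow] at ha
    exact pow_ne_zero n (nonZeroDivisors.ne_zero hreg) ((v.isUnit.map (algebraMap V H)).mul_right_eq_zero.1 ha)
  let E := FractionRing H
  have hinjE : Function.Injective ((algebraMap H E).comp (algebraMap V H) : V →+* E) :=
    fun a b h => hinj (IsFractionRing.injective H E h)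
  let φ : L →+* E := IsFractionRing.lift (g := (algebraMap H E).comp (algebraMap V H)) hinjE
  refine ⟨H, inferInstance, hd, hv, inferInstance, φ, ?_, ⟨RingEquiv.ofBijective _ (Groth.Agent.S0508.result V H)⟩⟩
  letI := φ.toAlgebra
  haveI : IsScalarTower V L E := IsScalarTower.of_algebraMap_eq fun v => ((IsFractionRing.lift_algebraMap hinjE v).trans (IsScalarTower.algebraMap_apply V H E v).symm).symm
  have key : ∀ z : H, IsIntegral L (algebraMap H E z) := fun z => by
    obtain ⟨U, _, _, _, ξ, v, rfl⟩ := HenselLib.etCov_hens (R := V) (hθ₀ := IsLocalRing.ker_residue) z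
    haveI : Module.Finite L (L ⊗[V] U) := Algebra.FormallyUnramified.finite_of_free L (L ⊗[V] U)
    let g : L ⊗[V] U →ₐ[L] E := Algebra.TensorProduct.lift (Algebra.ofId L E)
      ((IsScalarTower.toAlgHom V H E).comp ξ) fun _ _ => Commute.all _ _
    have h1 : g (1 ⊗ₜ v) = algebraMap H E (ξ.toRingHom v) := by simp [g]; rfl
    have h2 := (Algebra.IsIntegral.isIntegral (R := L) ((1 : L) ⊗ₜ[V] v)).map g
    rw [h1] at h2
    exact h2
  refine ⟨fun y => ?_⟩
  obtain ⟨a, b, hb, rfl⟩ := IsFractionRing.div_surjective H y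
  rw [div_eq_mul_inv]
  exact ((key a).isAlgebraic).mul (key b).isAlgebraic.inv

/-- Primes of height one below a nonzero prime. -/
theorem exists_height_one_le {A : Type u} [CommRing A] [IsDomain A] [IsNoetherianRing A] (p : Ideal A) [p.IsPrime]
    (hp : p ≠ ⊥) : ∃ q : Ideal A, q.IsPrime ∧ q ≤ p ∧ q ≠ ⊥ ∧ q.height ≤ 1 := by
  obtain ⟨a, ha, ha0⟩ := Submodule.exists_mem_ne_zero_of_ne_bot hp
  obtain ⟨q, hq, hqp⟩ := Ideal.exists_minimalPrimes_le ((Ideal.span_singleton_le_iff_mem _).2 ha)
  haveI := hq.1.1
  exact ⟨q, hq.1.1, hqp, fun h => ha0 (by simpa [h] using hq.1.2 (Ideal.mem_span_singleton_self a)),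
    Ideal.height_le_one_of_isPrincipal_of_mem_minimalPrimes _ _ hq⟩

/-- Krull-Akizuki: a DVR over a prime of height one, with finite residue extension. -/
theorem exists_dvr_over {A : Type u} [CommRing A] [IsDomain A] [IsNoetherianRing A] (q : Ideal A) [q.IsPrime]
    (hq : q ≠ ⊥) (hht : q.height ≤ 1) (L : Type u) [Field L] [Algebra (FractionRing A) L]
    [FiniteDimensional (FractionRing A) L] [Algebra A L] [IsScalarTower A (FractionRing A) L] :
    ∃ (V : Type u) (_ : CommRing V) (_ : IsDomain V) (_ : IsDiscreteValuationRing V) (_ : Algebra V L)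
      (_ : IsFractionRing V L) (φ : FractionRing (A ⧸ q) →+* ResidueField V) (θ : A →+* V),
      (algebraMap V L).comp θ = algebraMap A L ∧ φ.Finite := by
  classical
  let Aq := Localization.AtPrime q
  let K := FractionRing A
  letI : Algebra Aq K := (IsLocalization.lift (M := q.primeCompl) (g := algebraMap A K) fun s =>
    isUnit_iff_ne_zero.2 fun h => s.2 (by
      rw [(map_eq_zero_iff _ (IsFractionRing.injective A K)).1 h]; exact zero_mem q)).toAlgebra
  haveI : IsScalarTower A Aq K := IsScalarTower.of_algebraMap_eq fun a =>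
    (IsLocalization.lift_eq (M := q.primeCompl) (S := Aq) _ a).symm
  haveI : IsDomain Aq := IsLocalization.isDomain_localization q.primeCompl_le_nonZeroDivisors
  haveI : IsNoetherianRing Aq := IsLocalization.isNoetherianRing q.primeCompl Aq inferInstance
  haveI : IsFractionRing Aq K := IsFractionRing.isFractionRing_of_isDomain_of_isLocalization q.primeCompl Aq K
  have hd1 : ringKrullDim Aq ≤ 1 := by
    rw [IsLocalization.AtPrime.ringKrullDim_eq_height q Aq]
    exact_mod_cast hht
  haveI : Ring.DimensionLEOne Aq := (Ring.krullDimLE_one_iff_of_noZeroDivisors (R := Aq)).1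
    (Ring.krullDimLE_iff.2 hd1) |> fun h => ⟨fun {p} h0 hp => h p h0 hp⟩
  letI : Algebra Aq L := ((algebraMap K L).comp (algebraMap Aq K)).toAlgebra
  haveI : IsScalarTower Aq K L := IsScalarTower.of_algebraMap_eq fun _ => rfl
  haveI : IsScalarTower A Aq L := IsScalarTower.of_algebraMap_eq fun a => by
    show algebraMap A L a = algebraMap K L (algebraMap Aq K (algebraMap A Aq a))
    rw [← IsScalarTower.algebraMap_apply A Aq K, ← IsScalarTower.algebraMap_apply A K L]
  let B := integralClosure Aq L
  have hBinj : Function.Injective (algebraMap B L) := Subtype.val_injective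
  haveI : IsDomain B := hBinj.isDomain
  haveI : IsNoetherianRing B := NormalLib.isNoetherianRing_of_between (R := Aq) K (L := L) B hBinj
  haveI : IsFractionRing B L := integralClosure.isFractionRing_of_finite_extension K L
  haveI : IsIntegrallyClosed B := integralClosure.isIntegrallyClosedOfFiniteExtension K
  haveI : Ring.DimensionLEOne B := Ring.DimensionLEOne.of_isIntegral Aq B
  haveI : IsDedekindDomain B := { }
  have hinjAB : Function.Injective (algebraMap Aq B) := fun a b h =>
    IsFractionRing.injective Aq K ((algebraMap K L).injective (congrArg Subtype.val h))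
  haveI : FaithfulSMul Aq B := (faithfulSMul_iff_algebraMap_injective Aq B).2 hinjAB
  haveI : Algebra.IsIntegral Aq B := ⟨fun x => (isIntegral_algHom_iff (IsScalarTower.toAlgHom Aq B L) hBinj).1 x.2⟩
  obtain ⟨Q, hQ, hQc⟩ := Ideal.exists_ideal_over_maximal_of_isIntegral (S := B) (maximalIdeal Aq)
    (by rw [(RingHom.injective_iff_ker_eq_bot _).1 hinjAB]; exact bot_le)
  haveI := hQ
  have hm0 : maximalIdeal Aq ≠ ⊥ := fun h1 => hq ((Submodule.eq_bot_iff q).2 fun a ha => by
    rw [← Localization.AtPrime.comap_maximalIdeal (I := q)] at ha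
    have h2 : algebraMap A Aq a = 0 := by
      have : algebraMap A Aq a ∈ maximalIdeal Aq := ha
      rwa [h1, Ideal.mem_bot] at this
    exact (map_eq_zero_iff _ (IsLocalization.injective Aq q.primeCompl_le_nonZeroDivisors)).1 h2)
  have hQ0 : Q ≠ ⊥ := fun h => hm0 ((Submodule.eq_bot_iff _).2 fun a ha => by
    rw [← hQc] at ha
    have h2 : algebraMap Aq B a ∈ Q := ha
    rw [h, Ideal.mem_bot] at h2
    exact (map_eq_zero_iff _ hinjAB).1 h2)
  let V := Localization.AtPrime Q
  haveI : IsDomain V := IsLocalization.isDomain_localization Q.primeCompl_le_nonZeroDivisors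
  haveI : IsDiscreteValuationRing V := IsLocalization.AtPrime.isDiscreteValuationRing_of_dedekind_domain B hQ0 V
  letI : Algebra V L := (IsLocalization.lift (M := Q.primeCompl) (g := algebraMap B L) fun s =>
    isUnit_iff_ne_zero.2 fun h => s.2 (by rw [(map_eq_zero_iff _ hBinj).1 h]; exact zero_mem Q)).toAlgebra
  haveI : IsScalarTower B V L := IsScalarTower.of_algebraMap_eq fun a =>
    (IsLocalization.lift_eq (M := Q.primeCompl) (S := V) _ a).symm
  haveI : IsFractionRing V L := IsFractionRing.isFractionRing_of_isDomain_of_isLocalization Q.primeCompl V L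
  -- the residue fields
  obtain ⟨x, hx, hx0⟩ : ∃ x : Aq, x ∈ maximalIdeal Aq ∧ x ≠ 0 := Submodule.exists_mem_ne_zero_of_ne_bot hm0
  have hfl := NormalLib.isFiniteLength_quot (R := Aq) K (L := L) B hBinj hx0
  haveI : Q.IsMaximal := hQ
  let f : B →ₗ[Aq] B ⧸ Q := (Ideal.Quotient.mkₐ Aq Q).toLinearMap
  have hf : (Ideal.span {x} • ⊤ : Submodule Aq B) ≤ LinearMap.ker f := by
    rw [Submodule.smul_le]
    intro r hr b _
    rw [LinearMap.mem_ker]
    show Ideal.Quotient.mk Q (r • b) = 0
    rw [Ideal.Quotient.eq_zero_iff_mem, Algebra.smul_def]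
    refine Q.mul_mem_right _ ?_
    obtain ⟨c, rfl⟩ := Ideal.mem_span_singleton.1 hr
    have : x * c ∈ Q.comap (algebraMap Aq B) := hQc ▸ Ideal.mul_mem_right c _ hx
    exact this
  haveI : IsNoetherian Aq (B ⧸ (Ideal.span {x} • ⊤ : Submodule Aq B)) :=
    (isFiniteLength_iff_isNoetherian_isArtinian.1 hfl).1
  haveI : Module.Finite Aq (B ⧸ Q) := Module.Finite.of_surjective (Submodule.liftQ _ f hf) fun y => by
    obtain ⟨b, rfl⟩ := Ideal.Quotient.mk_surjective y
    exact ⟨Submodule.Quotient.mk b, rfl⟩
  let eV : B ⧸ Q ≃+* ResidueField V := IsLocalization.AtPrime.equivQuotMaximalIdeal Q V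
  let θ : A →+* V := (algebraMap B V).comp ((algebraMap Aq B).comp (algebraMap A Aq))
  let ψ : A ⧸ q →+* B ⧸ Q := Ideal.Quotient.lift q ((Ideal.Quotient.mk Q).comp ((algebraMap Aq B).comp (algebraMap A Aq)))
    fun a ha => by
      rw [RingHom.comp_apply, Ideal.Quotient.eq_zero_iff_mem]
      have h1 : algebraMap A Aq a ∈ maximalIdeal Aq := by
        rw [← Localization.AtPrime.comap_maximalIdeal (I := q)] at ha; exact ha
      rw [← hQc] at h1
      exact h1
  letI : Field (B ⧸ Q) := Ideal.Quotient.field Q
  have hψ : Function.Injective ψ := (injective_iff_map_eq_zero _).2 fun a ha => by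
    obtain ⟨a, rfl⟩ := Ideal.Quotient.mk_surjective a
    rw [Ideal.Quotient.lift_mk, RingHom.comp_apply, Ideal.Quotient.eq_zero_iff_mem] at ha
    have h1 : algebraMap A Aq a ∈ maximalIdeal Aq := by rw [← hQc]; exact ha
    rw [Ideal.Quotient.eq_zero_iff_mem, ← Localization.AtPrime.comap_maximalIdeal (I := q)]
    exact h1
  let φ : FractionRing (A ⧸ q) →+* B ⧸ Q := IsFractionRing.lift hψ
  refine ⟨V, inferInstance, inferInstance, inferInstance, inferInstance, inferInstance,
    eV.toRingHom.comp φ, θ, ?_, RingHom.Finite.comp (RingHom.Finite.of_surjective _ eV.surjective) ?_⟩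
  · refine RingHom.ext fun a => ?_
    show algebraMap V L (algebraMap B V (algebraMap Aq B (algebraMap A Aq a))) = _
    rw [← IsScalarTower.algebraMap_apply B V L, ← IsScalarTower.algebraMap_apply Aq B L,
      ← IsScalarTower.algebraMap_apply A Aq L]
  · have hgen : ∀ t : Aq, ∃ z : FractionRing (A ⧸ q), φ z = Ideal.Quotient.mk Q (algebraMap Aq B t) := fun t => by
      obtain ⟨⟨a, s⟩, hs⟩ := IsLocalization.surj q.primeCompl t
      refine ⟨algebraMap _ _ (Ideal.Quotient.mk q a) / algebraMap _ _ (Ideal.Quotient.mk q (s : A)), ?_⟩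
      have hs0 : ψ (Ideal.Quotient.mk q (s : A)) ≠ 0 := (map_ne_zero_iff _ hψ).2 fun h => s.2 (Ideal.Quotient.eq_zero_iff_mem.1 h)
      rw [map_div₀, IsFractionRing.lift_algebraMap, IsFractionRing.lift_algebraMap, div_eq_iff hs0]
      show Ideal.Quotient.mk Q (algebraMap Aq B (algebraMap A Aq a)) = Ideal.Quotient.mk Q (algebraMap Aq B t) *
        Ideal.Quotient.mk Q (algebraMap Aq B (algebraMap A Aq (s : A)))
      rw [← map_mul, ← map_mul, hs]
    letI := φ.toAlgebra
    show Module.Finite (FractionRing (A ⧸ q)) (B ⧸ Q)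
    obtain ⟨s, hs⟩ := (Module.finite_def.1 (inferInstance : Module.Finite Aq (B ⧸ Q)))
    refine ⟨⟨s, eq_top_iff.2 fun y _ => ?_⟩⟩
    have hy : y ∈ Submodule.span Aq (s : Set (B ⧸ Q)) := hs ▸ trivial
    induction hy using Submodule.span_induction with
    | mem y hy => exact Submodule.subset_span hy
    | zero => exact zero_mem _
    | add a b _ _ ha hb => exact add_mem (ha trivial) (hb trivial)
    | smul t a _ ha =>
      obtain ⟨z, hz⟩ := hgen t
      rw [show t • a = z • a by rw [Algebra.smul_def, Algebra.smul_def]; exact congrArg (· * a) hz.symm]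
      exact Submodule.smul_mem _ z (ha trivial)

end HensDvrCdLib
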