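import Groth.Agent.HensDvrCdLib.Germ
import Groth.Agent.EtAcycLib.Chase
import Groth.Agent.EtHensLib.Basic
import Groth.Agent.CdOneLib.Fixed

/-!
# Comparison with a constant sheaf at the closed point
-/

set_option autoImplicit false
set_option linter.all false
set_option backward.isDefEq.respectTransparency false
set_option backward.isDefEq.respectTransparency.types false
set_option synthInstance.maxHeartbeats 400000
set_option maxHeartbeats 1000000

universe u

open CategoryTheory CategoryTheory.Limits CategoryTheory.Abelian AlgebraicGeometry Opposite IsLocalRing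
open Groth.Agent Groth.Agent.EtShLib

attribute [local instance] EtSliceLib.pullExact

noncomputable section

namespace HensDvrCdLib

/-- A map from `ℤ/l` to a sheaf with cyclic stalk is bijective on the stalk if the germ is nonzero. -/
theorem bijective_stk_of_gen {X : Scheme.{u}} {l : ℕ} [hl : Fact l.Prime] {L : EtCoh.Ab X}
    (u : EtCoh.const X (ZMod l) ⟶ L) (t : ToType (L.obj.obj (op (EtCoh.top X))))
    (hu : u.hom.app (op (EtCoh.top X)) (cstUnit X (AddCommGrpCat.of (ULift.{u + 1} (ZMod l))) ⟨1⟩) = t)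
    (ht : l • t = 0) {Ω : Type u} [Field Ω] [IsSepClosed Ω] (ξ : Spec (CommRingCat.of Ω) ⟶ X)
    (hne : ∀ c : Fib ξ (EtCoh.top X), germ (A := AddCommGrpCat.{u + 1}) ξ L (EtCoh.top X) c t ≠ 0)
    (hgen : ∃ g₀ : ToType ((stk (A := AddCommGrpCat.{u + 1}) ξ).obj L), l • g₀ = 0 ∧ ∀ P, ∃ i : ℕ, P = i • g₀) :
    Function.Bijective ((stk (A := AddCommGrpCat.{u + 1}) ξ).map u) := by
  let CZ := AddCommGrpCat.of (ULift.{u + 1} (ZMod l))
  obtain ⟨g₀, hg0, hg⟩ := hgen
  obtain ⟨c, -⟩ := exists_fib ξ (EtCoh.top X) (ξ.base default) rfl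
  haveI := isCst_cstUnit (X := X) CZ _ ξ c
  let γ := cstUnit X CZ ≫ germ ξ (EtCoh.const X (ZMod l)) (EtCoh.top X) c
  let w := germ (A := AddCommGrpCat.{u + 1}) ξ L (EtCoh.top X) c t
  have hval : ∀ a : ULift.{u + 1} (ZMod l), (stk (A := AddCommGrpCat.{u + 1}) ξ).map u (γ a) = a.down.val • w := by
    intro a
    have h2 : a = a.down.val • (⟨1⟩ : ULift.{u + 1} (ZMod l)) := ULift.ext _ _ (by
      show a.down = a.down.val • (1 : ZMod l)
      rw [nsmul_one, ZMod.natCast_zmod_val])
    conv_lhs => rw [h2]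
    rw [map_nsmul, map_nsmul]
    exact congrArg (a.down.val • ·) ((germ_natural_apply ξ u _ c _).trans (congrArg _ hu))
  have hwkill : l • w = 0 := by
    show l • germ ξ L (EtCoh.top X) c t = 0
    rw [map_nsmul', ht, map_zero]
  refine ⟨(injective_iff_map_eq_zero _).2 fun Q hQ => ?_, fun P => ?_⟩
  · obtain ⟨a, rfl⟩ := (ConcreteCategory.bijective_of_isIso γ).2 Q
    rw [hval] at hQ
    have h4 := addOrderOf_dvd_of_nsmul_eq_zero hQ
    rw [addOrderOf_eq_prime hwkill (hne c)] at h4
    have h5 : a.down = 0 := (ZMod.val_eq_zero _).1 (Nat.eq_zero_of_dvd_of_lt h4 (ZMod.val_lt a.down))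
    rw [show a = 0 from ULift.ext _ _ h5, map_zero]
  · obtain ⟨i, rfl⟩ := hg P
    obtain ⟨k, hk⟩ := hg w
    have hk0 : ((k : ZMod l)) ≠ 0 := fun h => hne c (by
      obtain ⟨m, rfl⟩ := (ZMod.natCast_eq_zero_iff _ _).1 h
      show w = 0
      rw [hk, mul_nsmul, hg0, smul_zero])
    let r : ZMod l := (i : ZMod l) / (k : ZMod l)
    refine ⟨γ ⟨r⟩, ?_⟩
    rw [hval, hk, ← mul_nsmul']
    have hmod : r.val * k % l = i % l := by
      show r.val * k ≡ i [MOD l]
      rw [← ZMod.natCast_eq_natCast_iff, Nat.cast_mul, ZMod.natCast_zmod_val]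
      exact div_mul_cancel₀ _ hk0
    show (r.val * k) • g₀ = i • g₀
    rw [← Nat.div_add_mod (r.val * k) l, ← Nat.div_add_mod i l, hmod, add_nsmul, add_nsmul, mul_nsmul, mul_nsmul,
      hg0, smul_zero, smul_zero]

/-- A map bijective on the stalk at the closed point is bijective on cohomology. -/
theorem bijective_comp_of_stk (R : Type u) [CommRing R] [HenselianLocalRing R] {A B : EtCoh.Ab (Spec (CommRingCat.of R))}
    (u : A ⟶ B) {Ω : Type u} [Field Ω] [IsSepClosed Ω] (ξ : Spec (CommRingCat.of Ω) ⟶ Spec (CommRingCat.of R))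
    (hξ : ξ.base default = closedPoint R) (h : Function.Bijective ((stk (A := AddCommGrpCat.{u + 1}) ξ).map u)) (m : ℕ) :
    Function.Bijective (fun y : EtCoh.H (Spec (CommRingCat.of R)) A m => y.comp (Ext.mk₀ u) (add_zero m)) := by
  let cp := EtHensLib.cp R
  haveI : IsIso ((EtCoh.pull cp).map u) := isIso_of_stalks (A := AddCommGrpCat.{u + 1}) _ fun Ω' _ _ η => by
    let e := stalkPull cp η AddCommGrpCat.{u + 1}
    obtain ⟨e'⟩ := nonempty_stk_iso_of_eq (A := AddCommGrpCat.{u + 1}) (ξ := η ≫ cp) (ξ' := ξ)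
      (hξ.trans (by
        rw [Scheme.Hom.comp_apply]
        exact (SubmDescLib.closedPoint_map (IsLocalRing.residue R) IsLocalRing.residue_surjective _).symm))
    haveI : IsIso ((stk (A := AddCommGrpCat.{u + 1}) ξ).map u) := (ConcreteCategory.isIso_iff_bijective _).2 h
    exact (NatIso.isIso_map_iff e u).1 ((NatIso.isIso_map_iff e' u).2 inferInstance)
  have hA := EtHensLib.bijective_Hpull (A := R) A m
  have hB := EtHensLib.bijective_Hpull (A := R) B m
  refine (Function.Bijective.of_comp_iff' hB _).1 ?_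
  have h1 : (EtCore.Hpull cp B m) ∘ (fun y : EtCoh.H (Spec (CommRingCat.of R)) A m => y.comp (Ext.mk₀ u) (add_zero m)) =
      (fun y => y.comp (Ext.mk₀ ((EtCoh.pull cp).map u)) (add_zero m)) ∘ EtCore.Hpull cp A m :=
    funext fun y => EtAcycLib.Hpull_postcomp cp u m y
  rw [h1]
  exact (((extFunctorObj (EtCoh.const _ ℤ) m).mapIso (asIso ((EtCoh.pull cp).map u))).addCommGroupIsoToAddEquiv.bijective).comp hA

end HensDvrCdLib
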