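import Groth.Agent.HensDvrCdLib.Comp
import Groth.Agent.S14451

/-!
# The fraction field of a henselian DVR has larger cohomological dimension than the residue field
-/

set_option autoImplicit false
set_option linter.all false
set_option backward.isDefEq.respectTransparency false
set_option backward.isDefEq.respectTransparency.types false
set_option synthInstance.maxHeartbeats 400000
set_option maxHeartbeats 2000000

universe u

open CategoryTheory CategoryTheory.Limits CategoryTheory.Abelian AlgebraicGeometry Opposite IsLocalRing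
open Groth.Agent Groth.Agent.EtShLib MuConstLib

attribute [local instance] EtSliceLib.pullExact

noncomputable section

namespace HensDvrCdLib

theorem aeval_map_cyclotomic {A B : Type u} [CommRing A] [CommRing B] (f : A →+* B) (l : ℕ) (ζ : A)
    (h : Polynomial.aeval ζ (Polynomial.cyclotomic l ℤ) = 0) :
    Polynomial.aeval (f ζ) (Polynomial.cyclotomic l ℤ) = 0 := by
  have h' := Polynomial.map_aeval_eq_aeval_map (φ := RingHom.id ℤ) (ψ := f) (RingHom.ext_int _ _)
    (Polynomial.cyclotomic l ℤ) ζ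
  rw [h, map_zero, Polynomial.map_id] at h'
  exact h'.symm

variable (R : Type u) [CommRing R] [IsDomain R] [IsDiscreteValuationRing R] (K : Type u) [Field K] [Algebra R K]
  [IsFractionRing R K]

/-- The main step. -/
theorem core [HenselianLocalRing R] {l : ℕ} [hl : Fact l.Prime] (hlR : IsUnit (l : R)) (ζ : K)
    (hζ : Polynomial.aeval ζ (Polynomial.cyclotomic l ℤ) = 0) (n : ℕ)
    (hn : CdFieldLib.CdK (Spec (CommRingCat.of K)) l n) :
    1 ≤ n ∧ Subsingleton (EtCoh.H (Spec (CommRingCat.of (ResidueField R)))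
      (EtCoh.const (Spec (CommRingCat.of (ResidueField R))) (ZMod l)) n) := by
  obtain ⟨π, hπ⟩ := IsDiscreteValuationRing.exists_irreducible R
  obtain ⟨R', _, _, _, _, _, φ, hφ, ⟨C⟩⟩ := exists_strict R π hπ
  obtain ⟨ψ, hψ, sq⟩ := exists_square R K π hπ R' φ hφ
  let j := genPt R K
  let X := Spec (CommRingCat.of R)
  let U := Spec (CommRingCat.of K)
  let F := FractionRing R'
  let g' : Spec (CommRingCat.of F) ⟶ U := Spec.map (CommRingCat.ofHom ψ)
  let ξ0 := closedPt R' ≫ Spec.map (CommRingCat.ofHom φ)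
  haveI : (EtCoh.push j).Additive := { }
  haveI : (EtCoh.pull g').Additive := (EtCoh.pullPushAdj _).left_adjoint_additive
  haveI : QuasiCompact j := inferInstance
  haveI : QuasiSeparated j := inferInstance
  have hlK : (l : K) ≠ 0 := by simpa using (hlR.map (algebraMap R K)).ne_zero
  have hlF : (l : F) ≠ 0 := by simpa using ((hlR.map φ).map (algebraMap R' F)).ne_zero
  have hinv : Dix.InvertibleOn U l := CdOneLib.invertibleOn_field hlK
  have hA : l • 𝟙 (EtCoh.mu U l) = 0 := nsmul_id_mu U l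
  let S := resS U l
  have hS : S.ShortExact := shortExact_resS U l
  let zc : Γ((EtCoh.top U).left, ⊤) := (Scheme.ΓSpecIso (CommRingCat.of K)).inv.hom (algebraMap R K π)
  have hzc : IsUnit zc := (IsUnit.mk0 _ ((map_ne_zero_iff _ (IsFractionRing.injective R K)).2 hπ.ne_zero)).map
    (Scheme.ΓSpecIso (CommRingCat.of K)).inv.hom
  let z : ToType ((EtCoh.Gm U).obj.obj (op (EtCoh.top U))) :=
    ULift.up (Additive.ofMul (show (Γ((EtCoh.top U).left, ⊤))ˣ from hzc.unit))
  obtain ⟨t, ht, htW⟩ := exists_section hl.out.pos hinv z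
  let T := EtCechInjLib.derDelta (EtCoh.push j)
  let Y₁ := (T.F 0).obj S.X₂
  let Y₂ := (T.F 0).obj S.X₃
  let L := (T.F 1).obj S.X₁
  let g0 : Y₁ ⟶ Y₂ := (T.F 0).map S.g
  let d : Y₂ ⟶ L := T.δ hS 0
  let t₀ : ToType (Y₂.obj.obj (op (EtCoh.top X))) := topSec j S.X₃ t
  have ht₀ : l • t₀ = 0 := nsmul_topSec j S.X₃ t l ht
  obtain ⟨s, hs⟩ := CdOneLib.exists_hom_of_torsion_section l Y₂ t₀ ht₀
  let u : EtCoh.const X (ZMod l) ⟶ L := s ≫ d
  have hne : ∀ c : Fib ξ0 (EtCoh.top X),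
      germ (A := AddCommGrpCat.{u + 1}) ξ0 L (EtCoh.top X) c (d.hom.app (op (EtCoh.top X)) t₀) ≠ 0 := fun c =>
    germ_ne_zero R K π R' φ hφ ψ hψ sq.w hS hl.out.two_le z rfl t htW c
  -- positivity
  have hpos : 1 ≤ n := by
    by_contra h
    obtain ⟨c, -⟩ := exists_fib ξ0 (EtCoh.top X) (ξ0.base default) rfl
    obtain ⟨a, ha⟩ := exists_hom_top S.X₃ t
    haveI := hn (EtCoh.mu U l) hA 1 (by omega)
    obtain ⟨b, hb⟩ := Ext.covariant_sequence_exact₃ _ hS (Ext.mk₀ a) (zero_add 1)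
      (Subsingleton.elim (α := EtCoh.H U (EtCoh.mu U l) 1) _ _)
    obtain ⟨b, rfl⟩ := (Ext.mk₀_bijective _ _).2 b
    rw [Ext.mk₀_comp_mk₀] at hb
    have hb' := (Ext.mk₀_bijective _ _).1 hb
    refine hne c ?_
    have h1 : t₀ = g0.hom.app (op (EtCoh.top X)) (topSec j S.X₂ ((EtCore.gsec U).map b (DescSecLib.etOneSec U ⟨1⟩))) := by
      refine Eq.trans ?_ (topSec_natural j S.g _).symm
      show topSec j S.X₃ t = topSec j S.X₃ _
      rw [← ha, ← hb', Functor.map_comp]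
      rfl
    rw [h1]
    show germ ξ0 L (EtCoh.top X) c ((g0 ≫ d).hom.app (op (EtCoh.top X)) _) = 0
    rw [show g0 ≫ d = 0 from T.map_comp_δ hS 0]
    exact map_zero _
  -- the comparison map
  obtain ⟨e1⟩ := EtRpushStalkLib.nonempty_iso j sq C 1
  obtain ⟨eμ⟩ := MuConstLib.mu_iso_const U l hl.out.one_le
    (by simpa using (IsUnit.mk0 _ hlK).map (Scheme.ΓSpecIso (CommRingCat.of K)).inv.hom)
    ((Scheme.ΓSpecIso (CommRingCat.of K)).inv.hom ζ) (aeval_map_cyclotomic _ l ζ hζ)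
  obtain ⟨g₀, hg₀⟩ := exists_gen_H1 (E := F) l hlF (ψ ζ) (aeval_map_cyclotomic ψ l ζ hζ)
    (algebraMap R' F (φ π)) ((map_ne_zero_iff _ (IsFractionRing.injective R' F)).2 hφ.ne_zero)
    (fun b hb => exists_decomp R' (φ π) hφ hl.out.pos (by simpa using hlR.map φ) b hb)
  let eA : (EtCoh.pull g').obj (EtCoh.mu U l) ≅ EtCoh.const (Spec (CommRingCat.of F)) (ZMod l) :=
    (EtCoh.pull g').mapIso eμ ≪≫ (EtCore.pullConstIso g').app _
  let eS : (stk (A := AddCommGrpCat.{u + 1}) ξ0).obj L ≃+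
      EtCoh.H (Spec (CommRingCat.of F)) (EtCoh.const (Spec (CommRingCat.of F)) (ZMod l)) 1 :=
    ((e1.app (EtCoh.mu U l)) ≪≫ (extFunctorObj (EtCoh.const (Spec (CommRingCat.of F)) ℤ) 1).mapIso eA).addCommGroupIsoToAddEquiv
  have hbij : Function.Bijective ((stk (A := AddCommGrpCat.{u + 1}) ξ0).map u) := by
    refine bijective_stk_of_gen u (d.hom.app (op (EtCoh.top X)) t₀) ?_ ?_ ξ0 hne ⟨eS.symm g₀, ?_, fun P => ?_⟩
    · show d.hom.app _ (s.hom.app _ _) = _
      rw [hs]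
    · rw [map_nsmul', ht₀, map_zero]
    · refine eS.injective ?_
      rw [map_nsmul, AddEquiv.apply_symm_apply, map_zero]
      exact CdOneLib.nsmul_ext l (CdOneLib.nsmul_id_const l) g₀
    · obtain ⟨i, hi⟩ := hg₀ (eS P)
      exact ⟨i, eS.injective (by rw [map_nsmul, AddEquiv.apply_symm_apply, hi])⟩
  have hu : ∀ m, Function.Bijective (fun y : EtCoh.H X (EtCoh.const X (ZMod l)) m => y.comp (Ext.mk₀ u) (add_zero m)) :=
    bijective_comp_of_stk R u ξ0 (closedPt_base R π hπ φ hφ) hbij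
  -- vanishing
  haveI hY₁ : Injective Y₁ :=
    Injective.of_iso ((zeroIso j).app S.X₂).symm (Injective.injective_of_adjoint (EtCoh.pullPushAdj j) S.X₂)
  have hQ : ∀ m, n ≤ m → Subsingleton (EtCoh.H U S.X₃ m) := fun m hm => by
    obtain ⟨m', rfl⟩ : ∃ m', m = m' + 1 := ⟨m - 1, by omega⟩
    refine subsingleton_of_forall_eq 0 fun y => ?_
    haveI := hn (EtCoh.mu U l) hA (m' + 2) (by omega)
    obtain ⟨x, hx⟩ := Ext.covariant_sequence_exact₃ _ hS y rfl (Subsingleton.elim (α := EtCoh.H U (EtCoh.mu U l) (m' + 2)) _ _)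
    rw [← hx, Ext.eq_zero_of_injective x, Ext.zero_comp]
  have hRQ : ∀ q : ℕ, 0 < q → IsZero ((EtCoh.Rpush j q).obj S.X₃) := fun q hq => by
    obtain ⟨q', rfl⟩ : ∃ q', q = q' + 1 := ⟨q - 1, by omega⟩
    have h1 : IsZero ((T.F (q' + 1)).obj S.X₂) :=
      Functor.isZero_rightDerived_obj_injective_succ (EtCoh.push j) q' S.X₂
    have h2 : IsZero ((T.F (q' + 1 + 1)).obj S.X₁) :=
      isZero_Rpush_two R K π hπ φ hφ C hl.out.pos hlR (EtCoh.mu U l) hA (q' + 1 + 1) (by omega)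
    exact (T.exact₃ hS (q' + 1)).isZero_X₂ (h1.eq_of_src _ _) (h2.eq_of_tgt _ _)
  have hY₂ : ∀ m, n ≤ m → Subsingleton (EtCoh.H X Y₂ m) := fun m hm => by
    haveI := hQ m hm
    have h3 : Subsingleton (EtCoh.H X ((EtCoh.push j).obj S.X₃) m) := (Groth.Agent.S14451.result j S.X₃ hRQ m).1.subsingleton
    exact ((extFunctorObj (EtCoh.const X ℤ) m).mapIso ((zeroIso j).app S.X₃)).addCommGroupIsoToAddEquiv.toEquiv.subsingleton_congr.2 h3
  -- the two sequences
  haveI : (T.F 0).PreservesZeroMorphisms := T.preservesZero 0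
  have hex : (ShortComplex.mk g0 d (T.map_comp_δ hS 0)).Exact := T.exact₃ hS 0
  have hd : Epi d := (T.exact₁ hS 0).epi_f
    ((Functor.isZero_rightDerived_obj_injective_succ (EtCoh.push j) 0 S.X₂).eq_of_tgt _ _)
  let p : Y₁ ⟶ kernel d := kernel.lift d g0 (T.map_comp_δ hS 0)
  have hp : p ≫ kernel.ι d = g0 := kernel.lift_ι _ _ _
  haveI : Epi p := (ShortComplex.exact_iff_epi_kernel_lift _).1 hex
  let S1 : ShortComplex (EtCoh.Ab X) := ShortComplex.mk ((T.F 0).map S.f) p (by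
    rw [← cancel_mono (kernel.ι d), Category.assoc, hp, zero_comp]
    exact ((T.F 0).map_comp S.f S.g).symm.trans (by rw [S.zero, Functor.map_zero]))
  have hS1 : S1.ShortExact :=
    { exact := (ShortComplex.exact_iff_of_epi_of_isIso_of_mono (S₁ := S1) (S₂ := S.map (T.F 0))
        { τ₁ := 𝟙 _, τ₂ := 𝟙 _, τ₃ := kernel.ι d
          comm₁₂ := (Category.id_comp _).trans (Category.comp_id _).symm
          comm₂₃ := (Category.id_comp _).trans hp.symm }).2 (T.exact₂ hS 0)
      mono_f := T.mono₀ hS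
      epi_g := ‹Epi p› }
  let S2 : ShortComplex (EtCoh.Ab X) := ShortComplex.mk (kernel.ι d) d (kernel.condition _)
  haveI := hd
  have hS2 : S2.ShortExact := { exact := ShortComplex.exact_of_f_is_kernel _ (kernelIsKernel d) }
  have hA0 : ∀ q, n + 1 ≤ q → Subsingleton (EtCoh.H X S1.X₁ q) := fun q hq => by
    obtain ⟨m, rfl⟩ : ∃ m, q = m + 2 := ⟨q - 2, by omega⟩
    refine subsingleton_of_forall_eq 0 fun x => ?_
    haveI : Injective S1.X₂ := hY₁
    obtain ⟨y, rfl⟩ := Ext.covariant_sequence_exact₁ _ hS1 (n₁ := m + 1 + 1) x (Ext.eq_zero_of_injective _) (n₀ := m + 1) rfl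
    haveI := hY₂ (m + 1) (by omega)
    obtain ⟨w, rfl⟩ := Ext.covariant_sequence_exact₁ _ hS2 (n₁ := m + 1) y
      (Subsingleton.elim (α := EtCoh.H X Y₂ (m + 1)) _ _) (n₀ := m) rfl
    obtain ⟨w', rfl⟩ := (hu m).2 w
    have h0 : (w'.comp (Ext.mk₀ u) (add_zero m)).comp hS2.extClass rfl = 0 := by
      show (w'.comp (Ext.mk₀ (s ≫ d)) (add_zero m)).comp hS2.extClass rfl = 0
      rw [← Ext.mk₀_comp_mk₀, Ext.comp_assoc _ _ _ (add_zero m) (zero_add 1) (by omega),
        Ext.comp_assoc _ _ _ (add_zero 0) (zero_add 1) (by omega), hS2.comp_extClass, Ext.comp_zero, Ext.comp_zero]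
    rw [h0, Ext.zero_comp]
  refine ⟨hpos, ?_⟩
  haveI hL : Subsingleton (EtCoh.H X L n) := by
    refine subsingleton_of_forall_eq 0 fun y => ?_
    have h0 : y.comp hS2.extClass rfl = 0 := by
      haveI := hA0 (n + 2) (by omega)
      haveI : Injective S1.X₂ := hY₁
      obtain ⟨x, hx⟩ := Ext.covariant_sequence_exact₃ _ hS1 (y.comp hS2.extClass rfl) rfl
        (Subsingleton.elim (α := EtCoh.H X S1.X₁ (n + 2)) _ _)
      rw [← hx, Ext.eq_zero_of_injective x, Ext.zero_comp]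
    obtain ⟨w, hw⟩ := Ext.covariant_sequence_exact₃ _ hS2 y rfl h0
    haveI := hY₂ n le_rfl
    rw [← hw, Subsingleton.elim (α := EtCoh.H X Y₂ n) w 0, Ext.zero_comp]
  haveI : Subsingleton (EtCoh.H X (EtCoh.const X (ZMod l)) n) := (hu n).1.subsingleton
  have h3 : Subsingleton (EtCoh.H _ ((EtCoh.pull (EtHensLib.cp R)).obj (EtCoh.const X (ZMod l))) n) :=
    (EtHensLib.bijective_Hpull (A := R) (EtCoh.const X (ZMod l)) n).2.subsingleton
  exact ((extFunctorObj (EtCoh.const _ ℤ) n).mapIso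
    ((EtCore.pullConstIso (EtHensLib.cp R)).app _)).symm.addCommGroupIsoToAddEquiv.toEquiv.subsingleton_congr.2 h3

end HensDvrCdLib
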