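import Groth.Agent.EtCdLocalLib.Main
import Groth.Agent.CdFieldLib.Field
import Groth.Agent.S4165
import Groth.Agent.S0555
import Groth.Agent.S8543
import Groth.Agent.CatLib.Univ
import Groth.Agent.ConsEffaceLib.Main

/-!
# Cohomological dimension of the fields of strictly local rings over a DVR
-/

set_option autoImplicit false
set_option linter.all false
set_option backward.isDefEq.respectTransparency false
set_option backward.isDefEq.respectTransparency.types false
set_option synthInstance.maxHeartbeats 400000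
set_option maxHeartbeats 1000000

universe u

open CategoryTheory CategoryTheory.Limits AlgebraicGeometry IsLocalRing TensorProduct

noncomputable section

namespace HensDvrCdLib

theorem isUniversallyCatenary_dvr (V : Type u) [CommRing V] [IsDomain V] [IsDiscreteValuationRing V] :
    CAlg.IsUniversallyCatenary V :=
  CatLib.isUniversallyCatenary_of_isCMRing CatLib.isCMRing_of_isRegularRing

/-- The transcendence degree of the residue field at a generisation of a closed point. -/
theorem trdeg_residue_le (B : Type u) [CommRing B] [IsDomain B] (hB : CAlg.IsUniversallyCatenary B)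
    (S : Type u) [CommRing S] [Algebra B S] [Algebra.FiniteType B S] (n : Ideal B) [n.IsMaximal]
    (m p : Ideal S) [m.IsMaximal] [p.IsPrime] (hpm : p ≤ m) (hmn : m.comap (algebraMap B S) = n)
    (hinj : p.comap (algebraMap B S) = ⊥) :
    Algebra.trdeg B (S ⧸ p) + (n.height : Cardinal.{u}) ≤ (m.height : Cardinal.{u}) := by
  let q : Ideal (S ⧸ p) := m.map (Ideal.Quotient.mk p)
  haveI : q.IsMaximal := Ideal.IsMaximal.map_of_surjective_of_ker_le Ideal.Quotient.mk_surjective (by rwa [Ideal.mk_ker])
  haveI : FaithfulSMul B (S ⧸ p) := (faithfulSMul_iff_algebraMap_injective B _).2 ((injective_iff_map_eq_zero _).2 fun b hb => by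
    have h : b ∈ p.comap (algebraMap B S) := (show algebraMap B S b ∈ p from Ideal.Quotient.eq_zero_iff_mem.1 hb)
    rwa [hinj, Ideal.mem_bot] at h)
  haveI : q.LiesOver n := ⟨by
    rw [← hmn]
    show _ = q.comap (algebraMap B (S ⧸ p))
    rw [show algebraMap B (S ⧸ p) = (Ideal.Quotient.mk p).comp (algebraMap B S) from rfl, ← Ideal.comap_comap,
      Ideal.comap_map_of_surjective _ Ideal.Quotient.mk_surjective, ← RingHom.ker_eq_comap_bot, Ideal.mk_ker,
      sup_eq_left.2 hpm]⟩
  have h := Groth.Agent.S0555.result B hB (S ⧸ p) n q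
  haveI : Algebra.IsAlgebraic (B ⧸ n) ((S ⧸ p) ⧸ q) := by
    letI := Ideal.Quotient.field n
    letI := Ideal.Quotient.field q
    haveI : Algebra.FiniteType B ((S ⧸ p) ⧸ q) :=
      Algebra.FiniteType.of_surjective ((Ideal.Quotient.mkₐ B q).comp (Ideal.Quotient.mkₐ B p))
        (Ideal.Quotient.mk_surjective.comp Ideal.Quotient.mk_surjective)
    haveI : Algebra.FiniteType (B ⧸ n) ((S ⧸ p) ⧸ q) := Algebra.FiniteType.of_restrictScalars_finiteType B _ _
    haveI : Module.Finite (B ⧸ n) ((S ⧸ p) ⧸ q) := finite_of_finite_type_of_isJacobsonRing _ _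
    exact Algebra.IsAlgebraic.of_finite _ _
  rw [trdeg_eq_zero (R := B ⧸ n) (A := (S ⧸ p) ⧸ q), add_zero] at h
  rw [add_comm, ← h]
  exact_mod_cast FibDimLib.height_map_quotient_le hpm

/-- The residue fields of a strict henselization are algebraic over those of the local ring. -/
theorem exists_algebraic {S : Type u} [CommRing S] (m : Ideal S) [m.IsPrime] (A : Type u) [CommRing A] [IsLocalRing A]
    [Algebra S A] [IsLocalization.AtPrime A m] (R : Type u) [CommRing R] [IsLocalRing R] [Algebra A R]
    [IsLocalHom (algebraMap A R)] [Hensel.IsStrictHenselization A R] (P : Ideal R) [P.IsPrime] :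
    ∃ (p : Ideal S) (_ : p.IsPrime) (ι : p.ResidueField →+* FractionRing (R ⧸ P)),
      p ≤ m ∧ p = P.comap ((algebraMap A R).comp (algebraMap S A)) ∧
      (∀ a : S, ι (algebraMap S p.ResidueField a) =
        algebraMap (R ⧸ P) (FractionRing (R ⧸ P)) (Ideal.Quotient.mk P (algebraMap A R (algebraMap S A a)))) ∧
      (letI := ι.toAlgebra; Algebra.IsAlgebraic p.ResidueField (FractionRing (R ⧸ P))) := by
  let F := FractionRing (R ⧸ P)
  let π : R →+* F := (algebraMap (R ⧸ P) F).comp (Ideal.Quotient.mk P)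
  have hπker : ∀ r, π r = 0 ↔ r ∈ P := fun r => by
    rw [RingHom.comp_apply, map_eq_zero_iff _ (IsFractionRing.injective _ _), Ideal.Quotient.eq_zero_iff_mem]
  letI : Algebra S R := ((algebraMap A R).comp (algebraMap S A)).toAlgebra
  haveI : IsScalarTower S A R := IsScalarTower.of_algebraMap_eq fun _ => rfl
  let p : Ideal S := P.comap (algebraMap S R)
  have hpm : p ≤ m := fun s hs => by
    by_contra hsm
    have hu : IsUnit (algebraMap S A s) := IsLocalization.map_units A (⟨s, hsm⟩ : m.primeCompl)
    exact (inferInstance : P.IsPrime).ne_top (Ideal.eq_top_of_isUnit_mem _ hs (hu.map (algebraMap A R)))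
  let L := p.ResidueField
  let σ : (S ⧸ p) →+* F := Ideal.Quotient.lift p (π.comp (algebraMap S R)) fun a ha => (hπker _).2 ha
  have hσ : Function.Injective σ := (injective_iff_map_eq_zero σ).2 fun a ha => by
    obtain ⟨a, rfl⟩ := Ideal.Quotient.mk_surjective a
    exact Ideal.Quotient.eq_zero_iff_mem.2 ((hπker _).1 ha)
  let ι : L →+* F := IsFractionRing.lift hσ
  letI : Algebra L F := ι.toAlgebra
  have hιS : ∀ a : S, ι (algebraMap S L a) = π (algebraMap S R a) := fun a => by
    rw [IsScalarTower.algebraMap_apply S (S ⧸ p) L]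
    exact IsFractionRing.lift_algebraMap hσ _
  refine ⟨p, inferInstance, ι, hpm, rfl, hιS, ?_⟩
  have hLu : ∀ a : m.primeCompl, IsUnit (algebraMap S L (a : S)) := fun a => by
    refine IsUnit.mk0 _ fun h0 => a.2 (hpm ?_)
    exact Ideal.algebraMap_residueField_eq_zero.1 h0
  letI : Algebra A L := (IsLocalization.lift hLu : A →+* L).toAlgebra
  have hAS : ∀ a : S, algebraMap A L (algebraMap S A a) = algebraMap S L a := fun a => IsLocalization.lift_eq hLu a
  have hAF : ι.comp (algebraMap A L) = π.comp (algebraMap A R) :=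
    IsLocalization.ringHom_ext m.primeCompl (RingHom.ext fun a => by
      show ι (algebraMap A L (algebraMap S A a)) = π (algebraMap A R (algebraMap S A a))
      rw [hAS, hιS, ← IsScalarTower.algebraMap_apply S A R])
  have hint : ∀ r : R, IsIntegral L (π r) := fun r => by
    obtain ⟨e⟩ := HenselLib.nonempty_algEquiv_SH (R := A) R
    obtain ⟨U, _, _, _, ξ, hξ⟩ := HenselLib.etCov_of_algEquiv e (HenselLib.etCov_hens _) r
    obtain ⟨v, rfl⟩ := hξ
    haveI : Module.Finite L (L ⊗[A] U) := Algebra.FormallyUnramified.finite_of_free L (L ⊗[A] U)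
    have hAF' : ∀ a, algebraMap A F a = π (algebraMap A R a) := fun a => by
      rw [IsScalarTower.algebraMap_apply A (R ⧸ P) F]; rfl
    haveI : IsScalarTower A L F :=
      IsScalarTower.of_algebraMap_eq' (RingHom.ext fun a => (hAF' a).trans (RingHom.congr_fun hAF a).symm)
    let f : U →ₐ[A] F :=
      { toRingHom := π.comp ξ.toRingHom
        commutes' := fun a => (congrArg π (ξ.commutes a)).trans (hAF' a).symm }
    let g : L ⊗[A] U →ₐ[L] F := Algebra.TensorProduct.lift (Algebra.ofId L F) f fun _ _ => Commute.all _ _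
    have hg : g (1 ⊗ₜ v) = π (ξ v) := by
      rw [Algebra.TensorProduct.lift_tmul, map_one, one_mul]
      rfl
    rw [show π (ξ.toRingHom v) = g (1 ⊗ₜ v) from hg.symm]
    exact (IsIntegral.of_finite L _).map g
  exact ⟨fun z => by
    obtain ⟨a, b, -, rfl⟩ := IsFractionRing.div_surjective (A := R ⧸ P) z
    obtain ⟨a, rfl⟩ := Ideal.Quotient.mk_surjective a
    obtain ⟨b, rfl⟩ := Ideal.Quotient.mk_surjective b
    rw [div_eq_mul_inv]
    exact (hint a).isAlgebraic.mul (hint b).isAlgebraic.inv⟩

/-- Killed sheaves on the fraction field of a strictly henselian DVR. -/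
theorem cdK_frac_strict (V : Type u) [CommRing V] [IsDomain V] [IsDiscreteValuationRing V]
    [HenselianLocalRing V] [IsSepClosed (ResidueField V)] {l : ℕ} (hl : 0 < l) (hlV : IsUnit (l : V)) :
    CdFieldLib.CdK (Spec (CommRingCat.of (FractionRing V))) l 1 := fun F hF q hq => by
  haveI : NeZero l := ⟨hl.ne'⟩
  exact Groth.Agent.S4165.result V (FractionRing V) ⟨inferInstance, inferInstance⟩ l hlV F
    (fun U s => by rw [← Groth.Agent.ConsEffaceLib.app_nsmul_id, hF]; rfl) q hq

/-- The fields of the strictly local rings at closed points over a strictly henselian DVR. -/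
theorem cdK_frac_closed (V : Type u) [CommRing V] [IsDomain V] [IsDiscreteValuationRing V]
    [HenselianLocalRing V] [IsSepClosed (ResidueField V)] {l : ℕ} [hl : Fact l.Prime] (hlV : IsUnit (l : V))
    {X : Scheme.{u}} (f : X ⟶ Spec (CommRingCat.of V)) [LocallyOfFiniteType f] (x : X)
    (hxc : IsClosed ({x} : Set X)) (hx : f.base x = ((closedPoint V : PrimeSpectrum V) : ↥(Spec (CommRingCat.of V))))
    (R : Type u) [CommRing R] [IsLocalRing R] [Algebra (X.presheaf.stalk x) R]
    [IsLocalHom (algebraMap (X.presheaf.stalk x) R)] [Hensel.IsStrictHenselization (X.presheaf.stalk x) R]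
    (d : ℕ) (hd : ringKrullDim R ≤ d) (P : Ideal R) [P.IsPrime] :
    CdFieldLib.CdK (Spec (CommRingCat.of (FractionRing (R ⧸ P)))) l d := by
  obtain ⟨_, ⟨U, hU, rfl⟩, hxU, -⟩ :=
    X.isBasis_affineOpens.exists_subset_of_mem_open (Set.mem_univ x) isOpen_univ
  have hU : IsAffineOpen U := hU
  let pU := hU.primeIdealOf ⟨x, hxU⟩
  let S := Γ(X, U)
  obtain ⟨φ, hφ⟩ : ∃ φ : CommRingCat.of V ⟶ Γ(X, U), Spec.map φ = hU.fromSpec ≫ f := Spec.map_surjective _
  letI := φ.hom.toAlgebra
  haveI : Algebra.FiniteType V S := RingHom.finiteType_algebraMap.mp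
    ((HasRingHomProperty.Spec_iff (P := @LocallyOfFiniteType)).mp
      (hφ ▸ (inferInstance : LocallyOfFiniteType (hU.fromSpec ≫ f))))
  have hx' : hU.fromSpec.base pU = x := hU.fromSpec_primeIdealOf ⟨x, hxU⟩
  haveI : pU.asIdeal.IsMaximal := (PrimeSpectrum.isClosed_singleton_iff_isMaximal pU).1 (by
    have : ({pU} : Set _) = hU.fromSpec.base ⁻¹' {x} := by
      ext z
      exact ⟨fun h => by rw [Set.mem_singleton_iff.1 h]; exact hx', fun h =>
        hU.fromSpec.isOpenEmbedding.injective (h.trans hx'.symm)⟩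
    rw [this]
    exact hxc.preimage hU.fromSpec.continuous)
  have hm : pU.asIdeal.comap (algebraMap V S) = maximalIdeal V := by
    have h1 : (Spec.map φ).base pU = closedPoint V := by rw [hφ, Scheme.Hom.comp_apply, hx', hx]
    exact congrArg PrimeSpectrum.asIdeal h1
  letI := X.presheaf.algebra_section_stalk ⟨x, hxU⟩
  haveI := hU.isLocalization_stalk ⟨x, hxU⟩
  obtain ⟨p, hp, ι, hpm, hpP, hιS, halg⟩ := exists_algebraic pU.asIdeal (X.presheaf.stalk x) R P
  letI := ι.toAlgebra
  haveI := halg
  have hht : (pU.asIdeal.height : WithBot ℕ∞) ≤ d := by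
    rw [← IsLocalization.AtPrime.ringKrullDim_eq_height pU.asIdeal (X.presheaf.stalk x),
      ← Groth.Agent.S0541.result (X.presheaf.stalk x) R]
    exact hd
  have hht' : (pU.asIdeal.height : Cardinal.{u}) ≤ (d : Cardinal.{u}) := by
    have h1 : pU.asIdeal.height ≤ (d : ℕ∞) := WithBot.coe_le_coe.1 hht
    have h2 : ((pU.asIdeal.height : ℕ∞) : Cardinal.{u}) ≤ ((d : ℕ∞) : Cardinal.{u}) := Cardinal.ofENat_mono h1
    simpa using h2
  suffices h : CdFieldLib.CdK (Spec (CommRingCat.of p.ResidueField)) l d from CdFieldLib.cdK_algebraic h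
  by_cases h0 : p.comap (algebraMap V S) = ⊥
  · have h1 := trdeg_residue_le V (isUniversallyCatenary_dvr V) S (maximalIdeal V) pU.asIdeal p hpm hm h0
    rw [show (maximalIdeal V).height = 1 from WithBot.coe_injective (IsLocalRing.maximalIdeal_height_eq_ringKrullDim.trans (IsDiscreteValuationRing.ringKrullDim_eq_one V))] at h1
    haveI : FaithfulSMul V (S ⧸ p) := (faithfulSMul_iff_algebraMap_injective V _).2 ((injective_iff_map_eq_zero _).2 fun b hb => by
      have h : b ∈ p.comap (algebraMap V S) := (show algebraMap V S b ∈ p from Ideal.Quotient.eq_zero_iff_mem.1 hb)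
      rwa [h0, Ideal.mem_bot] at h)
    let F := FractionRing V
    let L := p.ResidueField
    haveI : FaithfulSMul V L := (faithfulSMul_iff_algebraMap_injective V L).2 (by
      rw [IsScalarTower.algebraMap_eq V (S ⧸ p) L, RingHom.coe_comp]
      exact (IsFractionRing.injective (S ⧸ p) L).comp ((faithfulSMul_iff_algebraMap_injective V _).1 ‹_›))
    letI : Algebra F L := FractionRing.liftAlgebra V L
    haveI : IsScalarTower V F L := FractionRing.isScalarTower_liftAlgebra V L
    haveI : FaithfulSMul F L := (faithfulSMul_iff_algebraMap_injective F L).2 (algebraMap F L).injective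
    haveI : Algebra.IsAlgebraic V F := IsLocalization.isAlgebraic F (nonZeroDivisors V)
    haveI : Algebra.IsAlgebraic (S ⧸ p) L := IsLocalization.isAlgebraic L (nonZeroDivisors (S ⧸ p))
    haveI : FaithfulSMul (S ⧸ p) L := (faithfulSMul_iff_algebraMap_injective _ _).2 (IsFractionRing.injective _ _)
    have h2 := trdeg_add_eq V F (A := L)
    have h3 := trdeg_add_eq V (S ⧸ p) (A := L)
    rw [trdeg_eq_zero (R := V) (A := F), zero_add] at h2
    rw [trdeg_eq_zero (R := S ⧸ p) (A := L), add_zero, ← h2] at h3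
    have h4 : Algebra.trdeg F L + 1 ≤ (d : Cardinal.{u}) := by
      rw [← h3]
      exact (by simpa using h1 : Algebra.trdeg V (S ⧸ p) + 1 ≤ _).trans hht'
    obtain ⟨t, ht⟩ := Cardinal.lt_aleph0.1 (lt_of_le_of_lt ((self_le_add_right _ _).trans h4) (Cardinal.natCast_lt_aleph0))
    rw [ht] at h4
    have h5 : t + 1 ≤ d := by exact_mod_cast h4
    exact (CdFieldLib.cdK_trdeg hl.out.pos t F L ht.le 1 (cdK_frac_strict V hl.out.pos hlV)).mono (by omega)
  · have hmax : p.comap (algebraMap V S) = maximalIdeal V :=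
      IsLocalRing.eq_maximalIdeal (Ideal.IsPrime.isMaximal inferInstance h0)
    let k := ResidueField V
    letI : Algebra k (S ⧸ p) := (Ideal.Quotient.lift (maximalIdeal V) (algebraMap V (S ⧸ p)) fun a ha => by
      rw [IsScalarTower.algebraMap_apply V S (S ⧸ p), Ideal.Quotient.algebraMap_eq, Ideal.Quotient.eq_zero_iff_mem]
      rw [← hmax] at ha
      exact ha).toAlgebra
    haveI : IsScalarTower V k (S ⧸ p) := IsScalarTower.of_algebraMap_eq fun _ => rfl
    haveI : Algebra.FiniteType k (S ⧸ p) := Algebra.FiniteType.of_restrictScalars_finiteType V _ _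
    obtain ⟨s, hs, htr⟩ := FibDimLib.ringKrullDim_quotient_eq_trdeg (k := k) (⊥ : Ideal (S ⧸ p))
    let q : Ideal (S ⧸ p) := pU.asIdeal.map (Ideal.Quotient.mk p)
    haveI : q.IsMaximal := Ideal.IsMaximal.map_of_surjective_of_ker_le Ideal.Quotient.mk_surjective (by rwa [Ideal.mk_ker])
    have h1 : (s : WithBot ℕ∞) ≤ d := by
      have h1 := EtCdLocalLib.ringKrullDim_quotient_le k (⊥ : Ideal (S ⧸ p)) q bot_le
      rw [hs] at h1
      exact h1.trans (le_trans (WithBot.coe_le_coe.2 (FibDimLib.height_map_quotient_le hpm)) hht)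
    let L' := (⊥ : Ideal (S ⧸ p)).ResidueField
    have hcd : CdFieldLib.CdK (Spec (CommRingCat.of L')) l d :=
      (CdFieldLib.cdK_trdeg hl.out.pos s k L' htr.le 0 (CdFieldLib.cdK_sepClosed k l)).mono (by
        have : s ≤ d := by exact_mod_cast h1
        omega)
    let ψ : L' →+* p.ResidueField := IsFractionRing.lift (A := (S ⧸ p) ⧸ (⊥ : Ideal (S ⧸ p)))
      (g := (algebraMap (S ⧸ p) p.ResidueField).comp (RingEquiv.quotientBot (S ⧸ p)).toRingHom)
      ((IsFractionRing.injective _ _).comp (RingEquiv.quotientBot (S ⧸ p)).injective)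
    letI := ψ.toAlgebra
    haveI : Algebra.IsAlgebraic L' p.ResidueField := ⟨fun z => by
      obtain ⟨a, b, -, rfl⟩ := IsFractionRing.div_surjective (A := S ⧸ p) z
      have key : ∀ a : S ⧸ p, IsAlgebraic L' (algebraMap (S ⧸ p) p.ResidueField a) := fun a => by
        have he : algebraMap (S ⧸ p) p.ResidueField a =
            ψ (algebraMap _ L' ((RingEquiv.quotientBot (S ⧸ p)).symm a)) := by
          rw [IsFractionRing.lift_algebraMap, RingHom.comp_apply, RingEquiv.toRingHom_eq_coe, RingEquiv.coe_toRingHom,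
            RingEquiv.apply_symm_apply]
        rw [he]
        exact isAlgebraic_algebraMap _
      rw [div_eq_mul_inv]
      exact (key a).mul (key b).inv⟩
    exact CdFieldLib.cdK_algebraic hcd

end HensDvrCdLib
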