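import Groth.Agent.S4165
import Groth.Agent.MuConstLib.Main
import Groth.Agent.EtKummerLib.Hilbert90
import Groth.Agent.EtKummerLib.Basic
import Groth.Agent.EtRpushStalkLib.Iso
import Groth.Agent.CdOneLib.Brauer

/-!
# Degree one cohomology of the fraction field of a strictly henselian DVR
-/

set_option autoImplicit false
set_option linter.all false
set_option backward.isDefEq.respectTransparency false
set_option backward.isDefEq.respectTransparency.types false
set_option synthInstance.maxHeartbeats 400000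
set_option maxHeartbeats 1000000

universe u

open CategoryTheory CategoryTheory.Limits CategoryTheory.Abelian AlgebraicGeometry Opposite
open Groth.Agent Groth.Agent.EtShLib MuConstLib

noncomputable section

namespace HensDvrCdLib

variable {E : Type u} [Field E]

/-- The element of the field of a map from the integers to `G_m`. -/
def unitVal (f : EtCoh.const (Spec (CommRingCat.of E)) ℤ ⟶ EtCoh.Gm (Spec (CommRingCat.of E))) : E :=
  (Scheme.ΓSpecIso (CommRingCat.of E)).hom.hom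
    (gmVal (Spec (CommRingCat.of E)) (W := EtCoh.top _)
      ((EtCore.gsec _).map f (DescSecLib.etOneSec _ ⟨1⟩)))

theorem unitVal_injective : Function.Injective (unitVal (E := E)) := fun f g h =>
  DescSecLib.et_ext_Z f g (gmVal_injective _ ((ConcreteCategory.bijective_of_isIso (Scheme.ΓSpecIso (CommRingCat.of E)).hom).1 h))

theorem unitVal_ne_zero (f : EtCoh.const (Spec (CommRingCat.of E)) ℤ ⟶ EtCoh.Gm (Spec (CommRingCat.of E))) :
    unitVal f ≠ 0 :=
  (IsUnit.map (Scheme.ΓSpecIso (CommRingCat.of E)).hom.hom (Units.isUnit _)).ne_zero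

theorem unitVal_add (f g : EtCoh.const (Spec (CommRingCat.of E)) ℤ ⟶ EtCoh.Gm (Spec (CommRingCat.of E))) :
    unitVal (f + g) = unitVal f * unitVal g := by
  rw [unitVal, unitVal, unitVal, ← map_mul]
  rfl

theorem unitVal_nsmul (n : ℕ) (f : EtCoh.const (Spec (CommRingCat.of E)) ℤ ⟶ EtCoh.Gm (Spec (CommRingCat.of E))) :
    unitVal (n • f) = unitVal f ^ n := by
  induction n with
  | zero =>
    rw [zero_smul, pow_zero]
    exact map_one (Scheme.ΓSpecIso (CommRingCat.of E)).hom.hom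
  | succ n ih => rw [succ_nsmul, unitVal_add, ih, pow_succ]

theorem exists_unitVal (b : E) (hb : b ≠ 0) :
    ∃ f : EtCoh.const (Spec (CommRingCat.of E)) ℤ ⟶ EtCoh.Gm (Spec (CommRingCat.of E)), unitVal f = b := by
  let X := Spec (CommRingCat.of E)
  obtain ⟨c, hc⟩ := (ConcreteCategory.bijective_of_isIso (Scheme.ΓSpecIso (CommRingCat.of E)).hom).2 b
  have hcu : IsUnit c := by
    refine (isUnit_map_iff (asIso (Scheme.ΓSpecIso (CommRingCat.of E)).hom).commRingCatIsoToRingEquiv c).1 ?_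
    show IsUnit ((Scheme.ΓSpecIso (CommRingCat.of E)).hom c)
    rw [hc]; exact IsUnit.mk0 _ hb
  let z : ToType ((EtCoh.Gm X).obj.obj (op (EtCoh.top X))) :=
    ULift.up (Additive.ofMul (show (Γ((EtCoh.top X).left, ⊤))ˣ from hcu.unit))
  let f : EtCoh.const X ℤ ⟶ EtCoh.Gm X := ((EtCore.constAdj X).homEquiv _ _).symm
    (AddCommGrpCat.ofHom ((zmultiplesHom _ z).comp AddEquiv.ulift.toAddMonoidHom))
  have h1 : (EtCore.gsec X).map f (DescSecLib.etOneSec X ⟨1⟩) = z := by
    have h := DescSecLib.constAdj_homEquiv_apply f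
    rw [Equiv.apply_symm_apply] at h
    refine (ConcreteCategory.congr_hom h.symm ⟨1⟩).trans ?_
    exact one_zsmul z
  refine ⟨f, ?_⟩
  rw [unitVal, h1]
  exact hc

/-- Multiples in the first cohomology. -/
theorem exists_gen_H1 (l : ℕ) [hl : Fact l.Prime] (hlE : (l : E) ≠ 0) (ζ : E)
    (hζ : Polynomial.aeval ζ (Polynomial.cyclotomic l ℤ) = 0) (π : E) (hπ : π ≠ 0)
    (hgen : ∀ b : E, b ≠ 0 → ∃ (i : ℕ) (c : E), c ≠ 0 ∧ b = π ^ i * c ^ l) :
    ∃ e₀ : EtCoh.H (Spec (CommRingCat.of E)) (EtCoh.const (Spec (CommRingCat.of E)) (ZMod l)) 1,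
      ∀ x, ∃ i : ℕ, x = i • e₀ := by
  let X := Spec (CommRingCat.of E)
  let ΓE := (Scheme.ΓSpecIso (CommRingCat.of E)).inv.hom
  obtain ⟨eμ⟩ := mu_iso_const X l hl.out.one_le (by simpa using (IsUnit.mk0 _ hlE).map ΓE)
    (ΓE ζ) (by
      have h := Polynomial.map_aeval_eq_aeval_map (φ := RingHom.id ℤ) (ψ := ΓE) (RingHom.ext_int _ _)
        (Polynomial.cyclotomic l ℤ) ζ
      rw [hζ, map_zero, Polynomial.map_id] at h
      exact h.symm)
  let S := EtKummerLib.kummer X l
  have hS : S.ShortExact := EtKummerLib.kummer_shortExact (CdOneLib.invertibleOn_field hlE)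
  haveI := EtKummerLib.subsingleton_H1_Gm E
  have hkill : ∀ y : EtCoh.H X (EtCoh.mu X l) 1, l • y = 0 := fun y => CdOneLib.nsmul_ext l (by
    have := CdOneLib.nsmul_id_const (X := X) l
    rw [← cancel_mono eμ.hom, zero_comp, Linear.smul_comp, Category.id_comp]
    rw [← Category.comp_id eμ.hom, ← Linear.comp_smul, this, comp_zero]) y
  obtain ⟨fπ, hfπ⟩ := exists_unitVal π hπ
  refine ⟨((Ext.mk₀ fπ).comp hS.extClass (zero_add 1)).comp (Ext.mk₀ eμ.hom) (add_zero 1), fun x => ?_⟩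
  obtain ⟨y, rfl⟩ : ∃ y : EtCoh.H X (EtCoh.mu X l) 1, x = y.comp (Ext.mk₀ eμ.hom) (add_zero 1) := by
    refine ⟨x.comp (Ext.mk₀ eμ.inv) (add_zero 1), ?_⟩
    rw [Ext.comp_assoc_of_third_deg_zero, Ext.mk₀_comp_mk₀, eμ.inv_hom_id, Ext.comp_mk₀_id]
  obtain ⟨w, hw⟩ := Ext.covariant_sequence_exact₁ _ hS y (Subsingleton.elim _ _) (n₀ := 0) rfl
  obtain ⟨f, rfl⟩ := (Ext.mk₀_bijective _ _).2 w
  obtain ⟨i, c, hc, hb⟩ := hgen (unitVal f) (unitVal_ne_zero f)
  obtain ⟨fc, hfc⟩ := exists_unitVal c hc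
  have hf : f = i • fπ + l • fc := unitVal_injective (by rw [unitVal_add, unitVal_nsmul, unitVal_nsmul, hfπ, hfc, hb])
  refine ⟨i, ?_⟩
  have h1 : ∀ (m : ℕ) (g : EtCoh.const X ℤ ⟶ EtCoh.Gm X),
      (Ext.mk₀ (m • g)).comp hS.extClass (zero_add 1) = m • ((Ext.mk₀ g).comp hS.extClass (zero_add 1)) := by
    intro m g
    induction m with
    | zero => rw [zero_smul, zero_smul, Ext.mk₀_zero, Ext.zero_comp]
    | succ m ih => rw [succ_nsmul, succ_nsmul, Ext.mk₀_add, Ext.add_comp, ih]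
  have h2 : ∀ (m : ℕ) (z : EtCoh.H X (EtCoh.mu X l) 1),
      (m • z).comp (Ext.mk₀ eμ.hom) (add_zero 1) = m • z.comp (Ext.mk₀ eμ.hom) (add_zero 1) := by
    intro m z
    induction m with
    | zero => rw [zero_smul, zero_smul, Ext.zero_comp]
    | succ m ih => rw [succ_nsmul, succ_nsmul, Ext.add_comp, ih]
  rw [← h2, ← hw]
  refine congrArg (fun t => Ext.comp t (Ext.mk₀ eμ.hom) (add_zero 1)) ?_
  rw [hf, Ext.mk₀_add, Ext.add_comp, h1, h1]
  exact (congrArg (_ + ·) (hkill _)).trans (add_zero _)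

/-- Powers of a uniformizer and `l`-th powers exhaust the fraction field of a strictly henselian DVR. -/
theorem exists_decomp (R : Type u) [CommRing R] [IsDomain R] [IsDiscreteValuationRing R]
    [HenselianLocalRing R] [IsSepClosed (IsLocalRing.ResidueField R)] (π : R) (hπ : Irreducible π)
    {l : ℕ} (hl : 0 < l) (hlR : IsUnit (l : R)) [Algebra R E] [IsFractionRing R E] (b : E) (hb : b ≠ 0) :
    ∃ (i : ℕ) (c : E), c ≠ 0 ∧ b = algebraMap R E π ^ i * c ^ l := by
  obtain ⟨j, v, hv⟩ := IsDiscreteValuationRing.exists_units_eq_smul_zpow_of_irreducible hπ hb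
  obtain ⟨w, hw⟩ := S4165.exists_root_unit ⟨inferInstance, inferInstance⟩ hlR hl v
  have hπ0 : algebraMap R E π ≠ 0 := (map_ne_zero_iff _ (IsFractionRing.injective R E)).2 hπ.ne_zero
  have hw0 : algebraMap R E w ≠ 0 := (map_ne_zero_iff _ (IsFractionRing.injective R E)).2
    (fun h => v.ne_zero (by rw [← hw, h, zero_pow hl.ne']))
  refine ⟨(j % (l : ℤ)).toNat, algebraMap R E π ^ (j / (l : ℤ)) * algebraMap R E w,
    mul_ne_zero (zpow_ne_zero _ hπ0) hw0, ?_⟩
  rw [hv, Units.smul_def, Algebra.smul_def, ← hw, map_pow, mul_pow, ← mul_assoc, mul_comm]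
  congr 1
  rw [← zpow_natCast _ l, ← zpow_mul, ← zpow_natCast _ ((j % (l : ℤ)).toNat), ← zpow_add₀ hπ0,
    Int.toNat_of_nonneg (Int.emod_nonneg j (by omega)), Int.emod_add_ediv_mul]

/-- A uniformizer is not an `l`-th power. -/
theorem not_pow_eq (R : Type u) [CommRing R] [IsDomain R] [IsDiscreteValuationRing R] (π : R) (hπ : Irreducible π)
    {l : ℕ} (hl : 2 ≤ l) [Algebra R E] [IsFractionRing R E] (y : E) : y ^ l ≠ algebraMap R E π := fun h => by
  obtain ⟨a, rfl⟩ := IsIntegrallyClosed.exists_algebraMap_eq_of_isIntegral_pow (R := R) (by omega : 0 < l)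
    (x := y) (h ▸ isIntegral_algebraMap)
  rw [← map_pow] at h
  obtain rfl := IsFractionRing.injective R E h
  exact not_irreducible_pow (by omega) hπ

end HensDvrCdLib
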