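import Groth.Agent.HensDvrCdLib.Strict
import Groth.Agent.HensDvrCdLib.Field
import Groth.Agent.CdFieldLib.Killed
import Groth.Agent.CdFieldLib.Field
import Groth.Agent.EtHensLib.Basic
import Groth.Agent.CdPrimeLib.Push

/-!
# Higher direct images from the generic point of a DVR
-/

set_option autoImplicit false
set_option linter.all false
set_option backward.isDefEq.respectTransparency false
set_option backward.isDefEq.respectTransparency.types false
set_option synthInstance.maxHeartbeats 400000
set_option maxHeartbeats 1000000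

universe u

open CategoryTheory CategoryTheory.Limits CategoryTheory.Abelian AlgebraicGeometry Opposite IsLocalRing
open Groth.Agent Groth.Agent.EtShLib

attribute [local instance] EtSliceLib.pullExact

noncomputable section

namespace HensDvrCdLib

variable (R : Type u) [CommRing R] [IsDomain R] [IsDiscreteValuationRing R] (K : Type u) [Field K] [Algebra R K]
  [IsFractionRing R K]

theorem closedPt_base {R' : Type u} [CommRing R'] [IsDomain R'] [IsDiscreteValuationRing R'] [HenselianLocalRing R']
    [IsSepClosed (ResidueField R')] (π : R) (hπ : Irreducible π) (φ : R →+* R') (hφ : Irreducible (φ π)) :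
    (closedPt R' ≫ Spec.map (CommRingCat.ofHom φ)).base default = closedPoint R := by
  refine PrimeSpectrum.ext ?_
  have hle : maximalIdeal R ≤ ((closedPt R' ≫ Spec.map (CommRingCat.ofHom φ)).base default).asIdeal := by
    rw [hπ.maximalIdeal_eq, Ideal.span_singleton_le_iff_mem]
    rw [Scheme.Hom.comp_apply, show (closedPt R').base default = closedPoint R' from
      SubmDescLib.closedPoint_map (IsLocalRing.residue R') IsLocalRing.residue_surjective _]
    show φ π ∈ maximalIdeal R'
    exact hφ.not_isUnit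
  exact ((maximalIdeal.isMaximal R).eq_of_le (PrimeSpectrum.isPrime _).ne_top hle).symm

theorem point_cases (y : Spec (CommRingCat.of R)) :
    y = closedPoint R ∨ y ∈ Set.range (genPt R K).base := by
  by_cases h : y.asIdeal = ⊥
  · refine Or.inr ⟨IsLocalRing.closedPoint K, PrimeSpectrum.ext ?_⟩
    rw [h]
    refine (Submodule.eq_bot_iff _).2 fun a ha => ?_
    have ha' : algebraMap R K a ∈ maximalIdeal K := ha
    rw [IsLocalRing.maximalIdeal_eq_bot, Ideal.mem_bot] at ha'
    exact (map_eq_zero_iff _ (IsFractionRing.injective R K)).1 ha'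
  · exact Or.inl (PrimeSpectrum.ext (IsLocalRing.eq_maximalIdeal (Ideal.IsPrime.isMaximal y.2 h)))

theorem isOpenImmersion_genPt : IsOpenImmersion (genPt R K) := by
  obtain ⟨π, hπ⟩ := IsDiscreteValuationRing.exists_irreducible R
  haveI : IsLocalization.Away π K := by
    refine IsLocalization.iff_of_le_of_exists_dvd (Submonoid.powers π) (nonZeroDivisors R)
      (Submonoid.powers_le.2 (mem_nonZeroDivisors_of_ne_zero hπ.ne_zero)) (fun n hn => ?_) |>.2 inferInstance
    obtain ⟨k, v, rfl⟩ := IsDiscreteValuationRing.eq_unit_mul_pow_irreducible (nonZeroDivisors.ne_zero hn) hπ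
    exact ⟨π ^ k, ⟨k, rfl⟩, by simp⟩
  exact IsOpenImmersion.of_isLocalization π

/-- A geometric point of the generic point through the strict henselization. -/
theorem exists_gen_chart :
    ∃ (Ω : Type u) (_ : Field Ω) (_ : IsSepClosed Ω) (R'' : Type u) (_ : CommRing R'') (_ : HenselianLocalRing R'')
      (_ : IsSepClosed (ResidueField R'')) (gS : Spec (CommRingCat.of R'') ⟶ Spec (CommRingCat.of R))
      (a : Spec (CommRingCat.of Ω) ⟶ Spec (CommRingCat.of K)) (b : Spec (CommRingCat.of Ω) ⟶ Spec (CommRingCat.of R'')),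
      IsPullback a b (genPt R K) gS ∧ Nonempty (EtRpushStalkLib.Chart gS) ∧
      (closedPt R'' ≫ gS).base default ∈ Set.range (genPt R K).base := by
  let X := Spec (CommRingCat.of R)
  let y : X := (genPt R K).base (IsLocalRing.closedPoint K)
  let R'' := HenselLib.SH (X.presheaf.stalk y)
  have hS : Hensel.IsStrictHenselization (X.presheaf.stalk y) R'' := inferInstance
  haveI := hS.henselian
  haveI : IsSepClosed (ResidueField R'') := hS.isSepClosure.sep_closed
  haveI := isOpenImmersion_genPt R K
  have hfield : IsField (X.presheaf.stalk y) :=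
    (asIso ((genPt R K).stalkMap (IsLocalRing.closedPoint K))).commRingCatIsoToRingEquiv.toMulEquiv.isField
      (CdFieldLib.isField_stalk _)
  have hR0 : IsField R'' := CdFieldLib.isField_strictHenselization _ R'' hfield
  let F : Field R'' := hR0.toField
  haveI : IsSepClosed R'' := @CdFieldLib.isSepClosed_of_isField R'' F ‹_›
  let gS := Hens2.specOf X y R''
  have hr : Set.range gS.base ⊆ Set.range (genPt R K).base := by
    rintro _ ⟨p, rfl⟩
    refine ⟨IsLocalRing.closedPoint K, ?_⟩
    have h1 : gS.base p ∈ Set.range (X.fromSpecStalk y).base :=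
      ⟨(Spec.map (CommRingCat.ofHom (algebraMap (X.presheaf.stalk y) R''))).base p, rfl⟩
    obtain ⟨p', hp'⟩ := h1
    haveI : Subsingleton ↥(Spec (X.presheaf.stalk y)) := by
      letI : Field (X.presheaf.stalk y) := hfield.toField
      exact inferInstanceAs (Subsingleton (PrimeSpectrum (X.presheaf.stalk y)))
    rw [← hp', Subsingleton.elim p' (IsLocalRing.closedPoint _), Scheme.fromSpecStalk_closedPoint]
  let a := IsOpenImmersion.lift (genPt R K) gS hr
  have hp : IsPullback a (𝟙 _) (genPt R K) gS := by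
    refine ⟨⟨by rw [IsOpenImmersion.lift_fac, Category.id_comp]⟩, ⟨PullbackCone.IsLimit.mk _ (fun c => c.snd)
      (fun c => ?_) (fun c => Category.comp_id _) (fun c m h1 h2 => ?_)⟩⟩
    · rw [← cancel_mono (genPt R K), Category.assoc, IsOpenImmersion.lift_fac]
      exact c.condition.symm
    · rw [← h2, Category.comp_id]
  obtain ⟨C⟩ := EtRpushStalkLib.exists_chart (S := X) y R''
  exact ⟨R'', F, inferInstance, R'', inferInstance, inferInstance, inferInstance, gS, a, 𝟙 _, hp, ⟨C⟩,
    hr ⟨(closedPt R'').base default, rfl⟩⟩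

/-- Killed sheaves on a separably closed field have no higher cohomology. -/
theorem subsingleton_H_sepClosed (Ω : Type u) [Field Ω] [IsSepClosed Ω] {l : ℕ} (G : EtCoh.Ab (Spec (CommRingCat.of Ω)))
    (hG : l • 𝟙 G = 0) (q : ℕ) (hq : 1 ≤ q) : Subsingleton (EtCoh.H (Spec (CommRingCat.of Ω)) G q) :=
  CdFieldLib.cdK_sepClosed Ω l G hG q hq

/-- The stalks at all points. -/
theorem isZero_of_two {R' : Type u} [CommRing R'] [IsDomain R'] [IsDiscreteValuationRing R'] [HenselianLocalRing R']
    [IsSepClosed (ResidueField R')] (π : R) (hπ : Irreducible π) (φ : R →+* R') (hφ : Irreducible (φ π))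
    {Ω : Type u} [Field Ω] [IsSepClosed Ω] (η : Spec (CommRingCat.of Ω) ⟶ Spec (CommRingCat.of R))
    (hη : η.base default ∈ Set.range (genPt R K).base) (Z : EtCoh.Ab (Spec (CommRingCat.of R)))
    (h0 : Subsingleton ((stk (A := AddCommGrpCat.{u + 1}) (closedPt R' ≫ Spec.map (CommRingCat.ofHom φ))).obj Z))
    (h1 : Subsingleton ((stk (A := AddCommGrpCat.{u + 1}) η).obj Z)) : IsZero Z := by
  rw [IsZero.iff_id_eq_zero]
  haveI : IsIso (0 : Z ⟶ Z) := isIso_of_stalks (A := AddCommGrpCat.{u + 1}) _ fun Ω' _ _ ξ => by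
    have key : Subsingleton ((stk (A := AddCommGrpCat.{u + 1}) ξ).obj Z) := by
      rcases point_cases R K (ξ.base default) with h | h
      · obtain ⟨e⟩ := nonempty_stk_iso_of_eq (A := AddCommGrpCat.{u + 1}) (ξ := closedPt R' ≫ Spec.map (CommRingCat.ofHom φ))
          (ξ' := ξ) (h.trans (closedPt_base R π hπ φ hφ).symm)
        exact (e.app Z).addCommGroupIsoToAddEquiv.toEquiv.subsingleton_congr.1 h0
      · obtain ⟨p, hp⟩ := h
        obtain ⟨p', hp'⟩ := hη
        haveI : Subsingleton ↥(Spec (CommRingCat.of K)) := inferInstanceAs (Subsingleton (PrimeSpectrum K))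
        obtain ⟨e⟩ := nonempty_stk_iso_of_eq (A := AddCommGrpCat.{u + 1}) (ξ := η) (ξ' := ξ)
          (hp.symm.trans ((congrArg (genPt R K).base (Subsingleton.elim p p')).trans hp'))
        exact (e.app Z).addCommGroupIsoToAddEquiv.toEquiv.subsingleton_congr.1 h1
    haveI := key
    exact (ConcreteCategory.isIso_iff_bijective _).2 ⟨fun a b _ => Subsingleton.elim a b, fun a => ⟨0, Subsingleton.elim _ _⟩⟩
  rw [← cancel_mono (0 : Z ⟶ Z)]
  simp

/-- The higher direct images of killed sheaves vanish in degrees at least two. -/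
theorem isZero_Rpush_two {R' : Type u} [CommRing R'] [IsDomain R'] [IsDiscreteValuationRing R'] [HenselianLocalRing R']
    [IsSepClosed (ResidueField R')] (π : R) (hπ : Irreducible π) (φ : R →+* R') (hφ : Irreducible (φ π))
    (C : EtRpushStalkLib.Chart (Spec.map (CommRingCat.ofHom φ))) {l : ℕ} (hl : 0 < l) (hlR : IsUnit (l : R))
    (G : EtCoh.Ab (Spec (CommRingCat.of K))) (hG : l • 𝟙 G = 0) (q : ℕ) (hq : 2 ≤ q) :
    IsZero ((EtCoh.Rpush (genPt R K) q).obj G) := by
  haveI : QuasiCompact (genPt R K) := inferInstance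
  haveI : QuasiSeparated (genPt R K) := inferInstance
  obtain ⟨ψ, -, sq⟩ := exists_square R K π hπ R' φ hφ
  obtain ⟨Ω, _, _, R'', _, _, _, gS, a, b, sq'', ⟨C''⟩, hη⟩ := exists_gen_chart R K
  refine isZero_of_two R K π hπ φ hφ (closedPt R'' ≫ gS) hη _ ?_ ?_
  · obtain ⟨e⟩ := EtRpushStalkLib.nonempty_iso (genPt R K) sq C q
    haveI : NeZero l := ⟨hl.ne'⟩
    haveI : (EtCoh.pull (Spec.map (CommRingCat.ofHom ψ))).Additive := (EtCoh.pullPushAdj _).left_adjoint_additive
    refine (e.app G).addCommGroupIsoToAddEquiv.toEquiv.subsingleton_congr.2 ?_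
    exact Groth.Agent.S4165.result R' (FractionRing R') ⟨inferInstance, inferInstance⟩ l
      (by simpa using hlR.map φ) _ (fun U s => by
        rw [← ConsEffaceLib.app_nsmul_id, CdPrimeLib.nsmul_id_map (EtCoh.pull _) hG]; rfl) q hq
  · obtain ⟨e⟩ := EtRpushStalkLib.nonempty_iso (genPt R K) sq'' C'' q
    haveI : (EtCoh.pull a).Additive := (EtCoh.pullPushAdj _).left_adjoint_additive
    refine (e.app G).addCommGroupIsoToAddEquiv.toEquiv.subsingleton_congr.2 ?_
    exact subsingleton_H_sepClosed Ω _ (CdPrimeLib.nsmul_id_map (EtCoh.pull a) hG) q (by omega)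

end HensDvrCdLib
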