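import Groth.Agent.HensDvrCdLib.Res
import Groth.Agent.HensDvrCdLib.Van
import Groth.Agent.EtCechInjLib.Delta

/-!
# The germ of the Kummer class of a uniformizer in the first direct image
-/

set_option autoImplicit false
set_option linter.all false
set_option backward.isDefEq.respectTransparency false
set_option backward.isDefEq.respectTransparency.types false
set_option synthInstance.maxHeartbeats 400000
set_option maxHeartbeats 1000000

universe u

open CategoryTheory CategoryTheory.Limits CategoryTheory.Abelian AlgebraicGeometry Opposite IsLocalRing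
open Groth.Agent Groth.Agent.EtShLib EtSliceLib MuConstLib

attribute [local instance] EtSliceLib.pullExact

noncomputable section

namespace HensDvrCdLib

variable {U X : Scheme.{u}} (j : U ⟶ X)

/-- The isomorphism in degree zero. -/
abbrev zeroIso : (EtCoh.push j).rightDerived 0 ≅ EtCoh.push j :=
  haveI : (EtCoh.push j).Additive := { }
  (EtCoh.push j).rightDerivedZeroIsoSelf

/-- A global section as a section of the direct image. -/
def topSec (G : EtCoh.Ab U) (t : ToType (G.obj.obj (op (EtCoh.top U)))) :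
    ToType ((((EtCoh.push j).rightDerived 0).obj G).obj.obj (op (EtCoh.top X))) :=
  ((zeroIso j).inv.app G).hom.app (op (EtCoh.top X))
    (G.obj.map ((EtCore.topIsTerminal U).from ((EtCoh.bc j).obj (EtCoh.top X))).op t)

theorem topSec_natural {G G' : EtCoh.Ab U} (a : G ⟶ G') (t : ToType (G.obj.obj (op (EtCoh.top U)))) :
    (((EtCoh.push j).rightDerived 0).map a).hom.app (op (EtCoh.top X)) (topSec j G t) =
      topSec j G' (a.hom.app (op (EtCoh.top U)) t) := by
  haveI : (EtCoh.push j).Additive := { }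
  have n1 : (EtCoh.push j).map a ≫ (zeroIso j).inv.app G' = (zeroIso j).inv.app G ≫ ((EtCoh.push j).rightDerived 0).map a :=
    (zeroIso j).inv.naturality a
  have n2 := congrArg (fun f : (EtCoh.push j).obj G ⟶ ((EtCoh.push j).rightDerived 0).obj G' =>
    f.hom.app (op (EtCoh.top X)) (G.obj.map ((EtCore.topIsTerminal U).from ((EtCoh.bc j).obj (EtCoh.top X))).op t)) n1
  refine n2.symm.trans ?_
  show ((zeroIso j).inv.app G').hom.app _ (a.hom.app _ (G.obj.map _ t)) = _
  rw [NatTrans.naturality_apply a.hom]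
  rfl

theorem nsmul_topSec (G : EtCoh.Ab U) (t : ToType (G.obj.obj (op (EtCoh.top U)))) (l : ℕ) (h : l • t = 0) :
    l • topSec j G t = 0 := by
  unfold topSec
  rw [map_nsmul', map_nsmul', h, map_zero, map_zero]

theorem germ_ne_zero (R : Type u) [CommRing R] [IsDomain R] [IsDiscreteValuationRing R] (K : Type u) [Field K]
    [Algebra R K] [IsFractionRing R K] (π : R) (R' : Type u) [CommRing R'] [IsDomain R'] [IsDiscreteValuationRing R']
    [HenselianLocalRing R'] [IsSepClosed (ResidueField R')] (φ : R →+* R') (hφ : Irreducible (φ π))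
    (ψ : K →+* FractionRing R') (hψ : ψ.comp (algebraMap R K) = (algebraMap R' (FractionRing R')).comp φ)
    (w : Spec.map (CommRingCat.ofHom ψ) ≫ genPt R K =
      Spec.map (CommRingCat.ofHom (algebraMap R' (FractionRing R'))) ≫ Spec.map (CommRingCat.ofHom φ))
    {S : ShortComplex (EtCoh.Ab (Spec (CommRingCat.of K)))} (hS : S.ShortExact) {l : ℕ} (hl : 2 ≤ l)
    (z : ToType ((EtCoh.Gm (Spec (CommRingCat.of K))).obj.obj (op (EtCoh.top _))))
    (hz : gmVal (Spec (CommRingCat.of K)) z = (Scheme.ΓSpecIso (CommRingCat.of K)).inv.hom (algebraMap R K π))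
    (t : ToType (S.X₃.obj.obj (op (EtCoh.top (Spec (CommRingCat.of K))))))
    (ht : ∀ (W : (Spec (CommRingCat.of K)).Etale) (i : ToType (S.X₂.obj.obj (op W))),
      S.g.hom.app (op W) i = S.X₃.obj.map ((EtCore.topIsTerminal _).from W).op t →
      ∃ x : ToType ((EtCoh.Gm (Spec (CommRingCat.of K))).obj.obj (op W)),
        l • x = (EtCoh.Gm (Spec (CommRingCat.of K))).obj.map ((EtCore.topIsTerminal _).from W).op z)
    (c : Fib (closedPt R' ≫ Spec.map (CommRingCat.ofHom φ)) (EtCoh.top (Spec (CommRingCat.of R)))) :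
    haveI : (EtCoh.push (genPt R K)).Additive := { }
    germ (A := AddCommGrpCat.{u + 1}) (closedPt R' ≫ Spec.map (CommRingCat.ofHom φ))
      (((EtCoh.push (genPt R K)).rightDerived 1).obj S.X₁) (EtCoh.top _) c
      (((EtCechInjLib.derDelta (EtCoh.push (genPt R K))).δ hS 0).hom.app _ (topSec (genPt R K) S.X₃ t)) ≠ 0 := by
  intro hc
  haveI : (EtCoh.push (genPt R K)).Additive := { }
  let j := genPt R K
  let U := Spec (CommRingCat.of K)
  let F := FractionRing R'
  let ξ0 := closedPt R' ≫ Spec.map (CommRingCat.ofHom φ)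
  let T := EtCechInjLib.derDelta (EtCoh.push j)
  let Y₁ := (T.F 0).obj S.X₂
  let Y₂ := (T.F 0).obj S.X₃
  let g0 : Y₁ ⟶ Y₂ := (T.F 0).map S.g
  haveI : PreservesFiniteLimits (stk (A := AddCommGrpCat.{u + 1}) ξ0) := inferInstance
  haveI : PreservesFiniteColimits (stk (A := AddCommGrpCat.{u + 1}) ξ0) := inferInstance
  let t₀ : ToType (Y₂.obj.obj (op (EtCoh.top _))) := topSec j S.X₃ t
  change germ (A := AddCommGrpCat.{u + 1}) ξ0 ((T.F 1).obj S.X₁) (EtCoh.top _) c ((T.δ hS 0).hom.app _ t₀) = 0 at hc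
  rw [← germ_natural_apply] at hc
  have hex : (ShortComplex.mk g0 (T.δ hS 0) (T.map_comp_δ hS 0)).Exact := T.exact₃ hS 0
  obtain ⟨P, hP⟩ := (ShortComplex.ab_exact_iff _).1 (hex.map (stk (A := AddCommGrpCat.{u + 1}) ξ0)) _ hc
  obtain ⟨V, k, v, x, hv, rfl⟩ := exists_germ_below ξ0 P _ c
  change (stk ξ0).map g0 (germ ξ0 Y₁ V v x) = germ ξ0 Y₂ (EtCoh.top _) c t₀ at hP
  rw [germ_natural_apply, ← hv, ← germ_res_apply] at hP
  obtain ⟨V', k', v', -, he⟩ := (germ_eq_iff ξ0 V v _ _).1 hP
  let W := (EtCoh.bc j).obj V'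
  let i : ToType (S.X₂.obj.obj (op W)) := ((zeroIso j).hom.app S.X₂).hom.app (op V') (Y₁.obj.map k'.op x)
  have h1 : S.g.hom.app (op W) i = S.X₃.obj.map ((EtCore.topIsTerminal U).from W).op t := by
    have n1 : g0 ≫ (zeroIso j).hom.app S.X₃ = (zeroIso j).hom.app S.X₂ ≫ (EtCoh.push j).map S.g :=
      (zeroIso j).hom.naturality S.g
    have n2 := congrArg (fun f : Y₁ ⟶ (EtCoh.push j).obj S.X₃ => f.hom.app (op V') (Y₁.obj.map k'.op x)) n1
    refine n2.symm.trans ?_
    show ((zeroIso j).hom.app S.X₃).hom.app (op V') (g0.hom.app (op V') (Y₁.obj.map k'.op x)) = _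
    rw [NatTrans.naturality_apply g0.hom k'.op x, he]
    have h3 := congrArg (fun f : (EtCoh.push j).obj S.X₃ ⟶ (EtCoh.push j).obj S.X₃ => f.hom.app (op (EtCoh.top _))
      (S.X₃.obj.map ((EtCore.topIsTerminal U).from ((EtCoh.bc j).obj (EtCoh.top _))).op t)) ((zeroIso j).inv_hom_id_app S.X₃)
    refine (NatTrans.naturality_apply ((zeroIso j).hom.app S.X₃).hom k'.op _).trans ?_
    refine (congrArg (((EtCoh.push j).obj S.X₃).obj.map k'.op)
      ((NatTrans.naturality_apply ((zeroIso j).hom.app S.X₃).hom k.op _).trans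
        (congrArg (((EtCoh.push j).obj S.X₃).obj.map k.op) h3))).trans ?_
    show S.X₃.obj.map ((EtCoh.bc j).map k').op (S.X₃.obj.map ((EtCoh.bc j).map k).op (S.X₃.obj.map _ t)) = _
    simp only [← ConcreteCategory.comp_apply, ← Functor.map_comp, ← op_comp]
    rw [(EtCore.topIsTerminal U).hom_ext ((EtCoh.bc j).map k' ≫ (EtCoh.bc j).map k ≫ _) ((EtCore.topIsTerminal U).from W)]
  obtain ⟨x', hx'⟩ := ht W i h1
  let σ := EtRpushStalkLib.sigma' j (Spec.map (CommRingCat.ofHom φ)) w V' v'
  have hσ : σ ≫ W.hom = Spec.map (CommRingCat.ofHom ψ) := EtRpushStalkLib.sigma'_w _ _ _ _ _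
  let y : F := (Scheme.ΓSpecIso (CommRingCat.of F)).hom.hom (σ.appTop.hom (gmVal U x'))
  refine not_pow_eq (E := F) R' (φ π) hφ hl y ?_
  show ((Scheme.ΓSpecIso (CommRingCat.of F)).hom.hom (σ.appTop.hom (gmVal U x'))) ^ l = _
  rw [← map_pow, ← map_pow, ← gmVal_nsmul, hx', gmVal_map, hz]
  have h5 : ∀ a, σ.appTop.hom (((EtCore.topIsTerminal U).from W).left.appTop.hom a) =
      (Spec.map (CommRingCat.ofHom ψ)).appTop.hom a := fun a => by
    have h6 : σ ≫ ((EtCore.topIsTerminal U).from W).left = Spec.map (CommRingCat.ofHom ψ) := by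
      have h7 : ((EtCore.topIsTerminal U).from W).left ≫ 𝟙 U = W.hom := MorphismProperty.Over.w _
      exact (congrArg (σ ≫ ·) ((Category.comp_id _).symm.trans h7)).trans hσ
    exact congrArg (fun g : Spec (CommRingCat.of F) ⟶ U => g.appTop.hom a) h6
  refine (congrArg _ (h5 _)).trans ?_
  have h8 := congrArg (fun f : CommRingCat.of K ⟶ _ => (Scheme.ΓSpecIso (CommRingCat.of F)).hom.hom (f.hom (algebraMap R K π)))
    (Scheme.ΓSpecIso_inv_naturality (CommRingCat.ofHom ψ))
  refine (h8.symm.trans ?_).trans (RingHom.congr_fun hψ π)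
  exact congrArg (fun f : CommRingCat.of F ⟶ CommRingCat.of F => f.hom (ψ (algebraMap R K π)))
    (Scheme.ΓSpecIso (CommRingCat.of F)).inv_hom_id

end HensDvrCdLib
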