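import Groth.Agent.HensDvrCdLib.Core
import Groth.Agent.CdOneLib.Torsion
import Groth.Agent.CdFieldLib.Curve
import Groth.Agent.CovDevLib.Basis
import Groth.Agent.EtTransferLib.Field

/-!
# Lower bound for the cohomological dimension along henselian DVRs and noetherian local domains
-/

set_option autoImplicit false
set_option linter.all false
set_option backward.isDefEq.respectTransparency false
set_option backward.isDefEq.respectTransparency.types false
set_option synthInstance.maxHeartbeats 400000
set_option maxHeartbeats 1000000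

universe u

open CategoryTheory CategoryTheory.Limits CategoryTheory.Abelian AlgebraicGeometry Opposite IsLocalRing Polynomial
open Groth.Agent Groth.Agent.EtShLib EtSliceLib EtTransferLib EtBrLib

attribute [local instance] EtSliceLib.pullExact

noncomputable section

namespace HensDvrCdLib

theorem subsingleton_const_of_equiv {E E' : Type u} [Field E] [Field E'] (e : E ≃+* E') (l q : ℕ)
    (h : Subsingleton (EtCoh.H (Spec (CommRingCat.of E)) (EtCoh.const (Spec (CommRingCat.of E)) (ZMod l)) q)) :
    Subsingleton (EtCoh.H (Spec (CommRingCat.of E')) (EtCoh.const (Spec (CommRingCat.of E')) (ZMod l)) q) := by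
  haveI : IsIso (CommRingCat.ofHom e.toRingHom) := (ConcreteCategory.isIso_iff_bijective _).2 e.bijective
  let f := Spec.map (CommRingCat.ofHom e.toRingHom)
  haveI := h
  have h1 : Subsingleton (EtCoh.H _ ((EtCoh.pull f).obj (EtCoh.const (Spec (CommRingCat.of E)) (ZMod l))) q) :=
    (CovDevLib.bijective_Hpull_iso f _ q).2.subsingleton
  exact ((extFunctorObj (EtCoh.const _ ℤ) q).mapIso
    ((EtCore.pullConstIso f).app _)).symm.addCommGroupIsoToAddEquiv.toEquiv.subsingleton_congr.2 h1

/-- Descending vanishing along extensions of degree prime to `l`. -/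
theorem subsingleton_const_of_ext {L L' : Type u} [Field L] [Field L'] [Algebra L L'] [FiniteDimensional L L']
    [Algebra.IsSeparable L L'] {l : ℕ} [hl : Fact l.Prime] (hd : ¬ l ∣ Module.finrank L L') (q : ℕ)
    (h : Subsingleton (EtCoh.H (Spec (CommRingCat.of L')) (EtCoh.const (Spec (CommRingCat.of L')) (ZMod l)) q)) :
    Subsingleton (EtCoh.H (Spec (CommRingCat.of L)) (EtCoh.const (Spec (CommRingCat.of L)) (ZMod l)) q) := by
  let W := fieldEt L L'
  haveI : AlgebraicGeometry.Etale W.hom := W.prop
  have h1 : Subsingleton (EtCoh.H W.left ((EtCoh.pull W.hom).obj (EtCoh.const (Spec (CommRingCat.of L)) (ZMod l))) q) :=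
    ((extFunctorObj (EtCoh.const _ ℤ) q).mapIso ((EtCore.pullConstIso W.hom).app _)).addCommGroupIsoToAddEquiv.toEquiv.subsingleton_congr.2 h
  refine subsingleton_of_forall_eq 0 fun x => ?_
  let y := EtCore.Hpull W.hom (EtCoh.const (Spec (CommRingCat.of L)) (ZMod l)) q x
  have hy0 : y = 0 := @Subsingleton.elim _ h1 y 0
  have h2 := finrank_nsmul L L' x ((kills_iff (W := W) _ q x).1 hy0)
  have h3 : l • x = 0 := CdOneLib.nsmul_ext l (CdOneLib.nsmul_id_const l) x
  have h4 : Nat.gcd l (Module.finrank L L') • x = 0 := gcd_nsmul_eq_zero.2 ⟨h3, h2⟩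
  rwa [(hl.out.coprime_iff_not_dvd.2 hd).gcd_eq_one, one_nsmul] at h4

/-- The residue field of a henselian DVR has smaller cohomological dimension. -/
theorem cdK_residue (R K : Type u) [CommRing R] [IsDomain R] [IsDiscreteValuationRing R] [HenselianLocalRing R]
    [Field K] [Algebra R K] [IsFractionRing R K] {l : ℕ} [hl : Fact l.Prime] (hlR : IsUnit (l : R)) (n : ℕ)
    (hn : CdFieldLib.CdK (Spec (CommRingCat.of K)) l n) :
    1 ≤ n ∧ CdFieldLib.CdK (Spec (CommRingCat.of (ResidueField R))) l (n - 1) := by
  have hlκ : (l : ResidueField R) ≠ 0 := by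
    have := (hlR.map (residue R)).ne_zero
    simpa using this
  have key : ∀ (L : Type u) [Field L] [Algebra (ResidueField R) L] [FiniteDimensional (ResidueField R) L]
      [Algebra.IsSeparable (ResidueField R) L],
      1 ≤ n ∧ Subsingleton (EtCoh.H (Spec (CommRingCat.of L)) (EtCoh.const (Spec (CommRingCat.of L)) (ZMod l)) n) := by
    intro L _ _ _ _
    have hlL : (l : L) ≠ 0 := by rw [← map_natCast (algebraMap (ResidueField R) L)]; exact (_root_.map_ne_zero _).2 hlκ
    obtain ⟨L', _, _, _, _, ζ, hζ, hdeg⟩ := CdOneLib.exists_root_of_unity_ext L l hlL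
    letI : Algebra (ResidueField R) L' := ((algebraMap L L').comp (algebraMap (ResidueField R) L)).toAlgebra
    haveI : IsScalarTower (ResidueField R) L L' := IsScalarTower.of_algebraMap_eq fun _ => rfl
    haveI : FiniteDimensional (ResidueField R) L' := FiniteDimensional.trans (ResidueField R) L L'
    haveI : Algebra.IsSeparable (ResidueField R) L' := Algebra.IsSeparable.trans (ResidueField R) L L'
    obtain ⟨S, _, _, _, _, _, _, hinj, ⟨e⟩⟩ := exists_unramified R L'
    have hlS : IsUnit (l : S) := by simpa using hlR.map (algebraMap R S)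
    haveI : NeZero ((l : ResidueField S)) := ⟨by simpa using (hlS.map (residue S)).ne_zero⟩
    -- the root of unity lifts
    obtain ⟨a₀, ha₀⟩ := residue_surjective (e.symm ζ)
    have h1 : (cyclotomic l S).eval a₀ ∈ maximalIdeal S := by
      rw [← residue_eq_zero_iff, ← eval_map_apply, map_cyclotomic, ha₀]
      have h := aeval_map_cyclotomic e.symm.toRingHom l ζ hζ
      rw [aeval_def, eval₂_eq_eval_map, map_cyclotomic] at h
      exact h
    have h2 : IsUnit ((derivative (cyclotomic l S)).eval a₀) := by
      by_contra hu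
      have h3 : residue S ((derivative (cyclotomic l S)).eval a₀) = 0 := (residue_eq_zero_iff _).2 hu
      rw [← eval_map_apply, ← derivative_map, map_cyclotomic] at h3
      have h4 := Polynomial.Separable.aeval_derivative_ne_zero (separable_cyclotomic l (ResidueField S))
        (x := residue S a₀) (by
          have := (residue_eq_zero_iff _).2 h1
          rwa [← eval_map_apply, map_cyclotomic] at this)
      exact h4 (by simpa using h3)
    obtain ⟨ζS, hζS, -⟩ := HenselianLocalRing.is_henselian (cyclotomic l S) (cyclotomic.monic l S) a₀ h1 h2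
    have hζS' : aeval ζS (cyclotomic l ℤ) = 0 := by
      rw [aeval_def, eval₂_eq_eval_map, map_cyclotomic]
      exact hζS
    -- the generic fibre
    let E := FractionRing S
    letI : Algebra K E := (IsFractionRing.lift (g := (algebraMap S E).comp (algebraMap R S))
      (fun a b h => hinj (IsFractionRing.injective S E h))).toAlgebra
    haveI : IsScalarTower R K E := IsScalarTower.of_algebraMap_eq fun a => by
      show _ = IsFractionRing.lift _ (algebraMap R K a)
      rw [IsFractionRing.lift_algebraMap]
      exact IsScalarTower.algebraMap_apply R S E a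
    haveI : Algebra.IsAlgebraic K E := ⟨fun y => by
      have key' : ∀ b : S, IsIntegral K (algebraMap S E b) := fun b =>
        (((Algebra.IsIntegral.isIntegral (R := R) b).map (IsScalarTower.toAlgHom R S E))).tower_top
      obtain ⟨a, b, hb, rfl⟩ := IsFractionRing.div_surjective S y
      rw [div_eq_mul_inv]
      exact ((key' a).isAlgebraic).mul (key' b).isAlgebraic.inv⟩
    obtain ⟨hpos, hS⟩ := core S E hlS (algebraMap S E ζS) (aeval_map_cyclotomic (algebraMap S E) l ζS hζS') n
      (CdFieldLib.cdK_algebraic hn)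
    exact ⟨hpos, subsingleton_const_of_ext hdeg n (subsingleton_const_of_equiv e l n hS)⟩
  have hpos : 1 ≤ n := (key (ResidueField R)).1
  refine ⟨hpos, fun F hF q hq => subsingleton_of_forall_eq 0 fun x => ?_⟩
  have hH : CdOneLib.HypP (ResidueField R) l n := fun L _ _ _ _ _ => (key L).2
  exact CdOneLib.eq_zero_of_hypP l (hH.of_le hpos (by omega)) F
    (CdOneLib.isTorsion_of_nsmul_id l hl.out.pos hF) x ⟨1, by rw [pow_one]; exact CdOneLib.nsmul_ext l hF x⟩

/-- The dimension of a noetherian local domain is at most the cohomological dimension of finite extensions of its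
fraction field. -/
theorem le_of_cdK {l : ℕ} [hl : Fact l.Prime] : ∀ (d m : ℕ) (A : Type u) [CommRing A] [IsDomain A] [IsNoetherianRing A]
    (_ : IsUnit (l : A)) (L : Type u) [Field L] [Algebra (FractionRing A) L] [FiniteDimensional (FractionRing A) L]
    (_ : CdFieldLib.CdK (Spec (CommRingCat.of L)) l d) (_ : (m : WithBot ℕ∞) ≤ ringKrullDim A), m ≤ d := by
  intro d
  induction d using Nat.strong_induction_on with
  | _ d ih =>
    intro m A _ _ _ hlA L _ _ _ hcd hm
    obtain rfl | hm0 := Nat.eq_zero_or_pos m
    · exact Nat.zero_le _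
    obtain ⟨m', rfl⟩ : ∃ m', m = m' + 1 := ⟨m - 1, by omega⟩
    obtain ⟨c, hc⟩ := Order.le_krullDim_iff.1 hm
    have hlt : c.toFun ⟨0, by omega⟩ < c.toFun ⟨1, by omega⟩ := c.strictMono (Fin.mk_lt_mk.2 Nat.zero_lt_one)
    have hp : (c.toFun ⟨1, by omega⟩).asIdeal ≠ ⊥ := fun h => by
      have h' := PrimeSpectrum.asIdeal_lt_asIdeal _ _ |>.2 hlt
      rw [h] at h'
      exact not_lt_bot h'
    obtain ⟨q, hqp, hqle, hq0, hht⟩ := exists_height_one_le (c.toFun ⟨1, by omega⟩).asIdeal hp
    haveI := hqp
    have hdimq : (m' : WithBot ℕ∞) ≤ ringKrullDim (A ⧸ q) := by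
      refine Order.le_krullDim_iff.2 ⟨⟨m', fun i => (PrimeSpectrum.mk
        ((c.toFun ⟨i.val + 1, by omega⟩).asIdeal.map (Ideal.Quotient.mk q))
        (Ideal.map_isPrime_of_surjective Ideal.Quotient.mk_surjective (by
          rw [Ideal.mk_ker]
          exact hqle.trans ((PrimeSpectrum.asIdeal_le_asIdeal _ _).2 (c.monotone (Fin.mk_le_mk.2 (by omega))))))),
        fun i => ?_⟩, rfl⟩
      have hle : ∀ k : Fin (m' + 1), q ≤ (c.toFun ⟨k.val + 1, by omega⟩).asIdeal := fun k =>
        hqle.trans ((PrimeSpectrum.asIdeal_le_asIdeal _ _).2 (c.monotone (Fin.mk_le_mk.2 (by omega))))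
      have h1 := (PrimeSpectrum.asIdeal_lt_asIdeal _ _).2
        (c.strictMono (show (⟨i.val + 1, by omega⟩ : Fin (c.length + 1)) < ⟨i.val + 1 + 1, by omega⟩ from Fin.mk_lt_mk.2 (by omega)))
      refine (PrimeSpectrum.asIdeal_lt_asIdeal _ _).1 (lt_of_le_of_ne (Ideal.map_mono h1.le) fun e => h1.ne ?_)
      have e' := congrArg (Ideal.comap (Ideal.Quotient.mk q)) e
      simp only [Ideal.comap_map_of_surjective _ Ideal.Quotient.mk_surjective, ← RingHom.ker_eq_comap_bot,
        Ideal.mk_ker] at e'
      have a1 := hle i.castSucc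
      have a2 := hle i.succ
      exact ((sup_eq_left.2 a1).symm.trans e').trans (sup_eq_left.2 a2)
    letI : Algebra A L := ((algebraMap (FractionRing A) L).comp (algebraMap A (FractionRing A))).toAlgebra
    haveI : IsScalarTower A (FractionRing A) L := IsScalarTower.of_algebraMap_eq fun _ => rfl
    obtain ⟨V, _, _, _, _, _, φ, θ, hθ, hφ⟩ := exists_dvr_over q hq0 hht L
    obtain ⟨H, _, _, _, _, ψ, hψ, ⟨eH⟩⟩ := exists_henselization V L
    letI := ψ.toAlgebra
    haveI := hψ
    have hcdH : CdFieldLib.CdK (Spec (CommRingCat.of (FractionRing H))) l d := CdFieldLib.cdK_algebraic hcd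
    have hlV : IsUnit (l : ResidueField V) := by simpa using ((hlA.map θ).map (residue V))
    have hlH : IsUnit (l : H) := by
      have h1 : IsUnit (residue H (l : H)) := by simpa using hlV.map eH.toRingHom
      exact (isUnit_map_iff (residue H) _).1 h1
    obtain ⟨hd1, hres⟩ := cdK_residue H (FractionRing H) hlH d hcdH
    letI : Algebra (FractionRing (A ⧸ q)) (ResidueField H) := (eH.toRingHom.comp φ).toAlgebra
    haveI : FiniteDimensional (FractionRing (A ⧸ q)) (ResidueField H) :=
      RingHom.Finite.comp (RingHom.Finite.of_surjective _ eH.surjective) hφ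
    have := ih (d - 1) (by omega) m' (A ⧸ q) (by simpa using hlA.map (Ideal.Quotient.mk q)) (ResidueField H) hres hdimq
    omega

end HensDvrCdLib
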