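import Groth.Agent.EtPBCProperLib.Effacement
import Groth.Agent.EtKummerLib.Basic
import Groth.Agent.EtSliceLib.Basic
import Groth.Agent.DescSecLib.Et
import Groth.Agent.MuConstLib.Main
import Groth.Agent.ConsEffaceLib.Main
import Groth.Agent.CdOneLib.Brauer

/-!
# The torsion section of a resolution of the roots of unity attached to an element of the field
-/

set_option autoImplicit false
set_option linter.all false
set_option backward.isDefEq.respectTransparency false
set_option backward.isDefEq.respectTransparency.types false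
set_option synthInstance.maxHeartbeats 400000
set_option maxHeartbeats 1000000

universe u

open CategoryTheory CategoryTheory.Limits CategoryTheory.Abelian AlgebraicGeometry Opposite
open Groth.Agent Groth.Agent.EtShLib EtSliceLib MuConstLib

noncomputable section

namespace HensDvrCdLib

theorem map_nsmul' {A B : AddCommGrpCat.{u + 1}} (f : A ⟶ B) (n : ℕ) (a : ToType A) : n • f a = f (n • a) :=
  (map_nsmul f.hom n a).symm

/-- Lifting sections through a morphism of short exact sequences which is the identity on the left. -/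
theorem exists_preimage {X : Scheme.{u}} {S T : ShortComplex (EtCoh.Ab X)} (hS : S.ShortExact) (hT : T.ShortExact)
    (Φ : S ⟶ T) [IsIso Φ.τ₁] (W : X.Etale) (i : ToType (T.X₂.obj.obj (op W))) (z : ToType (S.X₃.obj.obj (op W)))
    (h : T.g.hom.app (op W) i = Φ.τ₃.hom.app (op W) z) :
    ∃ x : ToType (S.X₂.obj.obj (op W)), S.g.hom.app (op W) x = z := by
  haveI := hT.epi_g
  haveI := hT.mono_f
  let P := pullback T.g Φ.τ₃
  let ι' : T.X₁ ⟶ P := pullback.lift T.f 0 (by rw [T.zero, zero_comp])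
  have hι : ι' ≫ pullback.fst _ _ = T.f := pullback.lift_fst _ _ _
  have hι2 : ι' ≫ pullback.snd _ _ = 0 := pullback.lift_snd _ _ _
  let S' : ShortComplex (EtCoh.Ab X) := ShortComplex.mk ι' (pullback.snd T.g Φ.τ₃) hι2
  haveI : Mono ι' := mono_of_mono_fac hι
  have hS' : S'.ShortExact := by
    have hlift : ∀ {A : EtCoh.Ab X} (k : A ⟶ P), k ≫ pullback.snd T.g Φ.τ₃ = 0 →
        (k ≫ pullback.fst T.g Φ.τ₃) ≫ T.g = 0 := fun k hk => by
      rw [Category.assoc, pullback.condition, ← Category.assoc, hk, zero_comp]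
    refine { exact := ShortComplex.exact_of_f_is_kernel _ (KernelFork.IsLimit.ofι' ι' hι2 fun {A} k hk =>
      ⟨hT.exact.lift (k ≫ pullback.fst _ _) (hlift k hk), pullback.hom_ext ?_ ?_⟩) }
    · rw [Category.assoc, hι, hT.exact.lift_f]
    · rw [Category.assoc, hι2, comp_zero, hk]
  let β : S.X₂ ⟶ P := pullback.lift Φ.τ₂ S.g Φ.comm₂₃
  let Ψ : S ⟶ S' :=
    { τ₁ := Φ.τ₁, τ₂ := β, τ₃ := 𝟙 _
      comm₁₂ := by
        refine pullback.hom_ext ?_ ?_
        · simp only [S', β, Category.assoc, pullback.lift_fst, hι]; exact Φ.comm₁₂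
        · simp only [S', β, Category.assoc, pullback.lift_snd, hι2, comp_zero, S.zero]
      comm₂₃ := by simp [S', β] }
  haveI : IsIso Ψ.τ₁ := inferInstanceAs (IsIso Φ.τ₁)
  haveI : IsIso Ψ.τ₃ := inferInstanceAs (IsIso (𝟙 S.X₃))
  haveI : IsIso β := ShortComplex.isIso₂_of_shortExact_of_isIso₁₃ Ψ hS hS'
  let a : free W ⟶ P := pullback.lift (desc W i) (desc W z) (free_hom_ext W (by
    show T.g.hom.app (op W) ((desc W i).hom.app (op W) (gen W)) = Φ.τ₃.hom.app (op W) ((desc W z).hom.app (op W) (gen W))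
    rw [desc_gen, desc_gen, h]))
  refine ⟨(a ≫ inv β).hom.app (op W) (gen W), ?_⟩
  have e : (a ≫ inv β) ≫ S.g = desc W z := by
    have e1 : inv β ≫ S.g = pullback.snd _ _ := by rw [IsIso.inv_comp_eq]; exact (pullback.lift_snd _ _ _).symm
    rw [Category.assoc, e1]
    exact pullback.lift_snd _ _ _
  have e2 := congrArg (fun f : free W ⟶ S.X₃ => f.hom.app (op W) (gen W)) e
  rw [desc_gen] at e2
  exact e2

/-- Global sections are morphisms from the constant sheaf. -/
theorem exists_hom_top {X : Scheme.{u}} (G : EtCoh.Ab X) (s : ToType (G.obj.obj (op (EtCoh.top X)))) :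
    ∃ a : EtCoh.const X ℤ ⟶ G, (EtCore.gsec X).map a (DescSecLib.etOneSec X ⟨1⟩) = s := by
  let a : EtCoh.const X ℤ ⟶ G := ((EtCore.constAdj X).homEquiv _ _).symm
    (AddCommGrpCat.ofHom ((zmultiplesHom _ s).comp AddEquiv.ulift.toAddMonoidHom))
  refine ⟨a, ?_⟩
  have h := DescSecLib.constAdj_homEquiv_apply a
  rw [Equiv.apply_symm_apply] at h
  exact (ConcreteCategory.congr_hom h.symm ⟨1⟩).trans (one_zsmul s)

/-- Global sections of an injective sheaf are divisible. -/
theorem exists_divide {X : Scheme.{u}} (I : EtCoh.Ab X) [Injective I] {n : ℕ} (hn : 0 < n)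
    (s : ToType (I.obj.obj (op (EtCoh.top X)))) : ∃ t, n • t = s := by
  obtain ⟨a, rfl⟩ := exists_hom_top I s
  haveI := EtPBCProperLib.mono_nsmul_const X hn
  let b := Injective.factorThru a (n • 𝟙 (EtCoh.const X ℤ))
  refine ⟨(EtCore.gsec X).map b (DescSecLib.etOneSec X ⟨1⟩), ?_⟩
  rw [show a = (n • 𝟙 (EtCoh.const X ℤ)) ≫ b from (Injective.comp_factorThru _ _).symm,
    Functor.map_comp, ConcreteCategory.comp_apply, map_nsmul']
  exact congrArg _ (ConsEffaceLib.app_nsmul_id (EtCoh.const X ℤ) n (EtCoh.top X) _).symm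

/-- An injective resolution step of the roots of unity. -/
def resS (U : Scheme.{u}) (l : ℕ) : ShortComplex (EtCoh.Ab U) :=
  ShortComplex.mk (Injective.ι (EtCoh.mu U l)) (cokernel.π (Injective.ι (EtCoh.mu U l))) (cokernel.condition _)

theorem shortExact_resS (U : Scheme.{u}) (l : ℕ) : (resS U l).ShortExact :=
  { exact := ShortComplex.exact_of_g_is_cokernel _ (cokernelIsCokernel _)
    mono_f := inferInstanceAs (Mono (Injective.ι (EtCoh.mu U l)))
    epi_g := inferInstanceAs (Epi (cokernel.π (Injective.ι (EtCoh.mu U l)))) }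

instance injective_resS (U : Scheme.{u}) (l : ℕ) : Injective (resS U l).X₂ :=
  inferInstanceAs (Injective (Injective.under (EtCoh.mu U l)))

theorem nsmul_id_mu (U : Scheme.{u}) (l : ℕ) : l • 𝟙 (EtCoh.mu U l) = 0 := by
  show l • 𝟙 (kernel (EtCoh.powMap U l)) = 0
  rw [← cancel_mono (kernel.ι (EtCoh.powMap U l)), zero_comp, Linear.smul_comp, Category.id_comp,
    ← Category.comp_id (kernel.ι (EtCoh.powMap U l)), ← Linear.comp_smul]
  exact kernel.condition _

/-- The torsion section whose local liftings are roots of a given unit. -/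
theorem exists_section {U : Scheme.{u}} {l : ℕ} (hl : 0 < l) (hinv : Dix.InvertibleOn U l)
    (z : ToType ((EtCoh.Gm U).obj.obj (op (EtCoh.top U)))) :
    ∃ t : ToType ((resS U l).X₃.obj.obj (op (EtCoh.top U))), l • t = 0 ∧
      ∀ (W : U.Etale) (i : ToType ((resS U l).X₂.obj.obj (op W))),
        (resS U l).g.hom.app (op W) i = (resS U l).X₃.obj.map ((EtCore.topIsTerminal U).from W).op t →
        ∃ x : ToType ((EtCoh.Gm U).obj.obj (op W)),
          l • x = (EtCoh.Gm U).obj.map ((EtCore.topIsTerminal U).from W).op z := by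
  have hSK := EtKummerLib.kummer_shortExact hinv
  haveI := hSK.mono_f
  haveI := hSK.epi_g
  let f2 : EtCoh.Gm U ⟶ (resS U l).X₂ := Injective.factorThru (Injective.ι (EtCoh.mu U l)) (EtCoh.muι U l)
  have hf2 : EtCoh.muι U l ≫ f2 = (resS U l).f := Injective.comp_factorThru _ _
  let f3 : EtCoh.Gm U ⟶ (resS U l).X₃ := hSK.exact.desc (f2 ≫ (resS U l).g) (by
    show EtCoh.muι U l ≫ f2 ≫ (resS U l).g = 0
    rw [← Category.assoc, hf2]
    exact (resS U l).zero)
  have hf3 : EtCoh.powMap U l ≫ f3 = f2 ≫ (resS U l).g := hSK.exact.g_desc _ _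
  let Φ : EtKummerLib.kummer U l ⟶ resS U l :=
    { τ₁ := 𝟙 (EtCoh.mu U l), τ₂ := f2, τ₃ := f3
      comm₁₂ := (Category.id_comp _).trans hf2.symm
      comm₂₃ := hf3.symm }
  haveI : IsIso Φ.τ₁ := inferInstanceAs (IsIso (𝟙 (EtCoh.mu U l)))
  obtain ⟨i', hi'⟩ := exists_divide (resS U l).X₂ hl (f2.hom.app (op (EtCoh.top U)) z)
  refine ⟨f3.hom.app (op (EtCoh.top U)) z - (resS U l).g.hom.app (op (EtCoh.top U)) i', ?_, fun W i hi => ?_⟩
  · have h1 : f3.hom.app (op (EtCoh.top U)) ((EtCoh.powMap U l).hom.app _ z) =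
        (resS U l).g.hom.app (op (EtCoh.top U)) (f2.hom.app _ z) :=
      congrArg (fun f : EtCoh.Gm U ⟶ (resS U l).X₃ => f.hom.app (op (EtCoh.top U)) z) hf3
    rw [show (EtCoh.powMap U l).hom.app (op (EtCoh.top U)) z = l • z from
      ConsEffaceLib.app_nsmul_id (EtCoh.Gm U) l (EtCoh.top U) z] at h1
    rw [smul_sub, map_nsmul', map_nsmul', h1, hi', sub_self]
  · obtain ⟨x, hx⟩ := exists_preimage hSK (shortExact_resS U l) Φ W
      (i + (resS U l).X₂.obj.map ((EtCore.topIsTerminal U).from W).op i')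
      ((EtCoh.Gm U).obj.map ((EtCore.topIsTerminal U).from W).op z) (by
        show (resS U l).g.hom.app (op W) (i + _) = f3.hom.app (op W) _
        rw [map_add, hi, NatTrans.naturality_apply (resS U l).g.hom, NatTrans.naturality_apply f3.hom, ← map_add]
        exact congrArg _ (sub_add_cancel _ _))
    exact ⟨x, (ConsEffaceLib.app_nsmul_id (EtCoh.Gm U) l W x).symm.trans hx⟩

end HensDvrCdLib
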