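import Groth.Agent.HensDvrCdLib.Lower
import Groth.Agent.FibDimLib.Pure
import Groth.Agent.FibDimLib.Semicont
import Mathlib.AlgebraicGeometry.ResidueField

/-!
# Lower bounds for noetherian rings
-/

set_option autoImplicit false
set_option linter.all false
set_option backward.isDefEq.respectTransparency false
set_option backward.isDefEq.respectTransparency.types false
set_option maxHeartbeats 1000000

universe u

open CategoryTheory CategoryTheory.Limits AlgebraicGeometry

noncomputable section

namespace HensDvrCdLib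

/-- A minimal prime through a chain. -/
theorem exists_minimal_chain {T : Type u} [CommRing T] {n : ℕ} (h : (n : WithBot ℕ∞) ≤ ringKrullDim T) :
    ∃ P ∈ minimalPrimes T, (n : WithBot ℕ∞) ≤ ringKrullDim (T ⧸ P) := by
  obtain ⟨c, hc⟩ := Order.le_krullDim_iff.1 h
  obtain ⟨P, hP, hPle⟩ := Ideal.exists_minimalPrimes_le (I := (⊥ : Ideal T)) (J := c.head.asIdeal) bot_le
  have hle : ∀ i, P ≤ (c.toFun i).asIdeal := fun i =>
    hPle.trans ((PrimeSpectrum.asIdeal_le_asIdeal _ _).2 (c.monotone (Fin.zero_le i)))
  refine ⟨P, hP, Order.le_krullDim_iff.2 ⟨⟨c.length, fun i => (PrimeSpectrum.mk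
    ((c.toFun i).asIdeal.map (Ideal.Quotient.mk P))
    (Ideal.map_isPrime_of_surjective Ideal.Quotient.mk_surjective (by rw [Ideal.mk_ker]; exact hle i))),
    fun i => ?_⟩, hc⟩⟩
  have h1 := (PrimeSpectrum.asIdeal_lt_asIdeal _ _).2 (c.step i)
  refine (PrimeSpectrum.asIdeal_lt_asIdeal _ _).1 (lt_of_le_of_ne (Ideal.map_mono h1.le) fun e => h1.ne ?_)
  have e' := congrArg (Ideal.comap (Ideal.Quotient.mk P)) e
  simp only [Ideal.comap_map_of_surjective _ Ideal.Quotient.mk_surjective, ← RingHom.ker_eq_comap_bot,
    Ideal.mk_ker] at e'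
  exact ((sup_eq_left.2 (hle i.castSucc)).symm.trans e').trans (sup_eq_left.2 (hle i.succ))

/-- The dimension is bounded by the cohomological dimension at the minimal primes. -/
theorem ringKrullDim_le {T : Type u} [CommRing T] [IsNoetherianRing T] {l : ℕ} [hl : Fact l.Prime] (hlT : IsUnit (l : T))
    (d : ℕ) (h : ∀ P ∈ minimalPrimes T, ∀ [P.IsPrime], CdFieldLib.CdK (Spec (CommRingCat.of (FractionRing (T ⧸ P)))) l d) :
    ringKrullDim T ≤ d := by
  refine FibDimLib.le_of_forall_nat_le fun n hn' => ?_
  obtain ⟨P, hP, hn⟩ := exists_minimal_chain hn'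
  haveI : P.IsPrime := hP.1.1
  have := le_of_cdK (l := l) d n (T ⧸ P) (by simpa using hlT.map (Ideal.Quotient.mk P)) (FractionRing (T ⧸ P)) (h P hP) hn
  exact_mod_cast this

/-- The dimension of a scheme is bounded by the cohomological dimension at the maximal points. -/
theorem topologicalKrullDim_le {X : Scheme.{u}} [IsNoetherian X] {l : ℕ} [hl : Fact l.Prime]
    (hX : ∀ y : X, (l : X.residueField y) ≠ 0) (d : ℕ)
    (hd : ∀ x : X, closure {x} ∈ irreducibleComponents (X : Type u) → CdFieldLib.CdK (Spec (X.residueField x)) l d) :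
    topologicalKrullDim X ≤ d := by
  refine FibDimLib.le_of_forall_nat_le fun n hn => ?_
  obtain ⟨q, hq, hqs⟩ := FibDimLib.exists_specChain hn
  let y := q (Fin.last n)
  let T := X.presheaf.stalk y
  have hr : ∀ i, q i ∈ Set.range (X.fromSpecStalk y) := fun i => by
    rw [Scheme.range_fromSpecStalk]
    exact hqs i _ (Fin.le_last i)
  choose p hp using hr
  have hdim : ringKrullDim T ≤ d := by
    haveI : IsNoetherianRing T := inferInstance
    have hlT : IsUnit (l : T) := by
      refine (isUnit_map_iff (IsLocalRing.residue T) _).1 ?_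
      rw [map_natCast]
      exact IsUnit.mk0 (G₀ := X.residueField y) _ (hX y)
    refine ringKrullDim_le hlT d fun P hP _ => ?_
    let pP : Spec T := ⟨P, hP.1.1⟩
    let x := (X.fromSpecStalk y).base pP
    have hmax : closure {x} ∈ irreducibleComponents (X : Type u) := by
      refine ⟨isIrreducible_singleton.closure, fun Z hZ hle => ?_⟩
      obtain ⟨z, hz⟩ := QuasiSober.sober hZ.closure isClosed_closure
      have hzx : z ⤳ x := hz.specializes (subset_closure (hle (subset_closure (Set.mem_singleton x))))
      have hzy : z ∈ Set.range (X.fromSpecStalk y).base := by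
        rw [Scheme.range_fromSpecStalk]
        refine hzx.trans ?_
        have hxy : x ∈ Set.range (X.fromSpecStalk y).base := ⟨pP, rfl⟩
        rw [Scheme.range_fromSpecStalk] at hxy
        exact hxy
      obtain ⟨pz, hpz⟩ := hzy
      have h1 : pz ⤳ pP := by
        rw [← (X.fromSpecStalk y).isEmbedding.isInducing.specializes_iff, hpz]
        exact hzx
      have h2 : P ≤ pz.asIdeal := hP.2 ⟨pz.2, bot_le⟩ ((PrimeSpectrum.le_iff_specializes _ _).2 h1)
      have h3 : z = x := by
        rw [← hpz, show pz = pP from PrimeSpectrum.ext (le_antisymm ((PrimeSpectrum.le_iff_specializes _ _).2 h1) h2)]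
      intro w hw
      have h4 : w ∈ closure ({z} : Set X) := by rw [hz.def]; exact subset_closure hw
      rwa [h3] at h4
    let g := X.fromSpecStalk y
    haveI : IsIso (g.residueFieldMap pP) := by
      refine (ConcreteCategory.isIso_iff_bijective _).2 ⟨RingHom.injective _, fun a => ?_⟩
      obtain ⟨b, rfl⟩ := Ideal.Quotient.mk_surjective a
      obtain ⟨c, rfl⟩ := g.stalkMap_surjective pP b
      exact ⟨IsLocalRing.residue _ c, rfl⟩
    let e₁ : (Spec T).residueField pP ≅ X.residueField x := (asIso (g.residueFieldMap pP)).symm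
    let e₂ : CommRingCat.of P.ResidueField ≅ X.residueField x := (Scheme.Spec.residueFieldIso T pP).symm ≪≫ e₁
    let e₃ : CommRingCat.of (FractionRing (T ⧸ P)) ≅ CommRingCat.of P.ResidueField :=
      (FractionRing.algEquiv (T ⧸ P) P.ResidueField).toRingEquiv.toCommRingCatIso
    exact CdFieldLib.cdK_finite (Spec.map (e₃ ≪≫ e₂).inv) (hd x hmax)
  refine le_trans ?_ hdim
  rw [← PrimeSpectrum.topologicalKrullDim_eq_ringKrullDim]
  refine FibDimLib.IsSpecChain.le_topologicalKrullDim (A := ↥(Spec T)) (c := p) ⟨fun i j e => hq ?_, fun i j hij => ?_⟩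
  · rw [← hp i, ← hp j, e]
  · rw [← (X.fromSpecStalk y).isEmbedding.isInducing.specializes_iff, hp i, hp j]
    exact hqs i j hij

end HensDvrCdLib
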