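import Groth.Agent.HensDvrCdLib.Alg
import Groth.Agent.EtRpushStalkLib.Exists
import Groth.Agent.EtRpushStalkLib.Iso
import Groth.Agent.S0540
import Groth.Agent.S0541
import Groth.Prelude.Def_EtBase
import Mathlib.RingTheory.IsTensorProduct

/-!
# The strict localization of a DVR at its closed point
-/

set_option autoImplicit false
set_option linter.all false
set_option backward.isDefEq.respectTransparency false
set_option backward.isDefEq.respectTransparency.types false
set_option synthInstance.maxHeartbeats 400000
set_option maxHeartbeats 1000000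

universe u

open CategoryTheory CategoryTheory.Limits AlgebraicGeometry IsLocalRing
open Groth.Agent.EtShLib

noncomputable section

namespace HensDvrCdLib

variable (R : Type u) [CommRing R] [IsDomain R] [IsDiscreteValuationRing R]

/-- The inclusion of the generic point. -/
abbrev genPt (K : Type u) [Field K] [Algebra R K] : Spec (CommRingCat.of K) ⟶ Spec (CommRingCat.of R) :=
  Spec.map (CommRingCat.ofHom (algebraMap R K))

/-- The strict localization. -/
theorem exists_strict (π : R) (hπ : Irreducible π) :
    ∃ (R' : Type u) (_ : CommRing R') (_ : IsDomain R') (_ : IsDiscreteValuationRing R') (_ : HenselianLocalRing R')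
      (_ : IsSepClosed (ResidueField R')) (φ : R →+* R'), Irreducible (φ π) ∧
      Nonempty (EtRpushStalkLib.Chart (Spec.map (CommRingCat.ofHom φ))) := by
  let X := Spec (CommRingCat.of R)
  let y : X := IsLocalRing.closedPoint R
  let T := X.presheaf.stalk y
  let R' := HenselLib.SH T
  have hS : Hensel.IsStrictHenselization T R' := inferInstance
  haveI := hS.henselian
  haveI : IsSepClosed (ResidueField R') := hS.isSepClosure.sep_closed
  haveI : IsNoetherianRing R := inferInstance
  letI : Algebra R T := (StructureSheaf.toStalk R y).hom.toAlgebra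
  haveI : IsLocalization.AtPrime T (maximalIdeal R) := StructureSheaf.IsLocalization.to_stalk R y
  let eT : R ≃ₐ[R] T := IsLocalization.atUnits R (maximalIdeal R).primeCompl (fun x hx => by
    by_contra h
    exact hx h)
  haveI : IsNoetherianRing T := isNoetherianRing_of_ringEquiv R eT.toRingEquiv
  haveI : IsNoetherianRing R' := (Groth.Agent.S0540.result T R').1 inferInstance
  let φ : R →+* R' := (algebraMap T R').comp (algebraMap R T)
  have hmT : (maximalIdeal R).map (algebraMap R T) = maximalIdeal T := IsLocalization.AtPrime.map_eq_maximalIdeal _ T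
  have hmax : maximalIdeal R' = Ideal.span {φ π} := by
    rw [← PairHensLib.map_maximalIdeal_of_isStrictHenselization T R', ← hmT, Ideal.map_map, hπ.maximalIdeal_eq,
      Ideal.map_span, Set.image_singleton]
  haveI : Module.Flat T R' := HenselLib.flat_hens (HenselLib.ker_scθ T)
  have hreg : φ π ∈ nonZeroDivisors R' := by
    rw [mem_nonZeroDivisors_iff_right]
    intro x hx
    have hne : algebraMap R T π ≠ 0 := fun h => hπ.ne_zero (eT.injective (by
      rw [map_zero]; exact (eT.commutes π).trans h))
    haveI : IsDomain T := MulEquiv.isDomain R eT.toRingEquiv.symm.toMulEquiv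
    have h1 := Module.Flat.isSMulRegular_of_isRegular (M := R') (isRegular_of_ne_zero hne)
    exact h1.right_eq_zero_of_smul (by rw [Algebra.smul_def, mul_comm]; exact hx)
  obtain ⟨hd, hv⟩ := isDomain_dvr R' (φ π) hmax hreg
  obtain ⟨C⟩ := EtRpushStalkLib.exists_chart (S := X) y R'
  have e : Hens2.specOf X y R' = Spec.map (CommRingCat.ofHom φ) := by
    show Spec.map (CommRingCat.ofHom (algebraMap T R')) ≫ X.fromSpecStalk y = _
    rw [Scheme.Spec_fromSpecStalk, ← Spec.map_comp]
    rfl
  refine ⟨R', inferInstance, hd, hv, inferInstance, inferInstance, φ, ?_, ⟨e ▸ C⟩⟩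
  exact (IsDiscreteValuationRing.irreducible_iff_uniformizer _).2 hmax

theorem exists_fracLift {A K L : Type u} [CommRing A] [IsDomain A] [Field K] [Algebra A K] [IsFractionRing A K]
    [Field L] (g : A →+* L) (hg : Function.Injective g) : ∃ ψ : K →+* L, ψ.comp (algebraMap A K) = g :=
  ⟨IsFractionRing.lift hg, RingHom.ext (IsFractionRing.lift_algebraMap hg)⟩

/-- The generic fibre of the strict localization. -/
theorem exists_square (K : Type u) [Field K] [Algebra R K] [IsFractionRing R K] (π : R) (hπ : Irreducible π)
    (R' : Type u) [CommRing R'] [IsDomain R'] [IsDiscreteValuationRing R'] (φ : R →+* R') (hφ : Irreducible (φ π)) :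
    ∃ ψ : K →+* FractionRing R', ψ.comp (algebraMap R K) = (algebraMap R' (FractionRing R')).comp φ ∧
      IsPullback (Spec.map (CommRingCat.ofHom ψ)) (Spec.map (CommRingCat.ofHom (algebraMap R' (FractionRing R'))))
        (genPt R K) (Spec.map (CommRingCat.ofHom φ)) := by
  let F := FractionRing R'
  have hφinj : Function.Injective φ := (injective_iff_map_eq_zero φ).2 fun a ha => by_contra fun h0 => by
    obtain ⟨n, v, rfl⟩ := IsDiscreteValuationRing.eq_unit_mul_pow_irreducible h0 hπ
    rw [map_mul, map_pow] at ha
    exact pow_ne_zero n hφ.ne_zero ((v.isUnit.map φ).mul_right_eq_zero.1 ha)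
  have hinj : Function.Injective ((algebraMap R' F).comp φ : R →+* F) :=
    fun a b h => hφinj (IsFractionRing.injective R' F h)
  obtain ⟨ψ, hψ⟩ := exists_fracLift (K := K) ((algebraMap R' F).comp φ) hinj
  letI : Algebra R R' := φ.toAlgebra
  letI : Algebra K F := ψ.toAlgebra
  haveI : IsScalarTower R K F := IsScalarTower.of_algebraMap_eq fun a => (IsScalarTower.algebraMap_apply R R' F a).trans (RingHom.congr_fun hψ a).symm
  have hK : IsLocalization (Submonoid.powers π) K := by
    refine IsLocalization.iff_of_le_of_exists_dvd (Submonoid.powers π) (nonZeroDivisors R)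
      (Submonoid.powers_le.2 (mem_nonZeroDivisors_of_ne_zero hπ.ne_zero)) (fun n hn => ?_) |>.2 inferInstance
    obtain ⟨k, v, rfl⟩ := IsDiscreteValuationRing.eq_unit_mul_pow_irreducible (nonZeroDivisors.ne_zero hn) hπ
    exact ⟨π ^ k, ⟨k, rfl⟩, by simp⟩
  haveI := hK
  have hF : IsLocalization (Submonoid.powers (φ π)) F := by
    refine IsLocalization.iff_of_le_of_exists_dvd (Submonoid.powers (φ π)) (nonZeroDivisors R')
      (Submonoid.powers_le.2 (mem_nonZeroDivisors_of_ne_zero hφ.ne_zero)) (fun n hn => ?_) |>.2 inferInstance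
    obtain ⟨k, v, rfl⟩ := IsDiscreteValuationRing.eq_unit_mul_pow_irreducible (nonZeroDivisors.ne_zero hn) hφ
    exact ⟨φ π ^ k, ⟨k, rfl⟩, by simp⟩
  haveI : IsLocalization (Algebra.algebraMapSubmonoid R' (Submonoid.powers π)) F := by
    rw [Algebra.algebraMapSubmonoid_powers]
    exact hF
  haveI : Algebra.IsPushout R K R' F := (Algebra.isPushout_of_isLocalization (Submonoid.powers π) K R' F).symm
  exact ⟨ψ, hψ, isPullback_SpecMap_of_isPushout _ _ _ _ (CommRingCat.isPushout_of_isPushout R K R' F)⟩

end HensDvrCdLib
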