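import Groth.Agent.S4165
import Groth.Agent.HensGRingLib.J2
import Mathlib.RingTheory.IntegralClosure.IntegralRestrict
import Mathlib.RingTheory.Trace.Basic
import Mathlib.RingTheory.Norm.Transitivity

/-!
# Norms of cyclic extensions over henselian DVRs with algebraically closed residue field
-/

set_option autoImplicit false
set_option linter.all false
set_option backward.isDefEq.respectTransparency false
set_option backward.isDefEq.respectTransparency.types false
set_option synthInstance.maxHeartbeats 400000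
set_option maxHeartbeats 1000000

universe u

open IsLocalRing Polynomial
open scoped Pointwise

noncomputable section

namespace HensDvrCdLib

/-- The elementary symmetric functions of the orbit of a free action of a group of prime order are traces. -/
theorem exists_esymm_eq_sum {G : Type*} [CommGroup G] [Fintype G] {B : Type*} [CommRing B] (f : G → B) (l : ℕ)
    (hl : (Nat.card G).Coprime l) :
    ∃ S : Finset (Finset G), (∀ T ∈ S, T.card = l) ∧
      ∑ T ∈ (Finset.univ : Finset G).powersetCard l, ∏ h ∈ T, f h = ∑ g : G, ∑ T ∈ S, ∏ h ∈ T, f (g * h) := by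
  classical
  let S : Finset (Finset G) := ((Finset.univ : Finset G).powersetCard l).filter fun T => ∏ h ∈ T, h = 1
  have hS : ∀ T ∈ S, T.card = l ∧ ∏ h ∈ T, h = 1 := fun T hT => by
    rw [Finset.mem_filter, Finset.mem_powersetCard] at hT
    exact ⟨hT.1.2, hT.2⟩
  refine ⟨S, fun T hT => (hS T hT).1, ?_⟩
  have hprod : ∀ (g : G) (T : Finset G), ∏ h ∈ T.map (mulLeftEmbedding g), h = g ^ T.card * ∏ h ∈ T, h := fun g T => by
    rw [Finset.prod_map]
    show ∏ h ∈ T, g * h = _
    rw [Finset.prod_mul_distrib, Finset.prod_const]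
  rw [← Finset.sum_product']
  refine (Finset.sum_bij' (fun x _ => x.2.map (mulLeftEmbedding x.1))
    (fun T _ => ((powCoprime hl).symm (∏ h ∈ T, h), T.map (mulLeftEmbedding ((powCoprime hl).symm (∏ h ∈ T, h))⁻¹)))
    ?_ ?_ ?_ ?_ ?_).symm
  · intro x hx
    rw [Finset.mem_product] at hx
    rw [Finset.mem_powersetCard, Finset.card_map]
    exact ⟨Finset.subset_univ _, (hS _ hx.2).1⟩
  · intro T hT
    rw [Finset.mem_powersetCard] at hT
    refine Finset.mem_product.2 ⟨Finset.mem_univ _, Finset.mem_filter.2 ⟨Finset.mem_powersetCard.2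
      ⟨Finset.subset_univ _, by rw [Finset.card_map, hT.2]⟩, ?_⟩⟩
    rw [hprod, hT.2, inv_pow, inv_mul_eq_one]
    exact (powCoprime hl).apply_symm_apply _
  · intro x hx
    rw [Finset.mem_product] at hx
    have h1 : (powCoprime hl).symm (∏ h ∈ x.2.map (mulLeftEmbedding x.1), h) = x.1 := by
      rw [hprod, (hS _ hx.2).1, (hS _ hx.2).2, mul_one]
      exact (powCoprime hl).symm_apply_apply _
    refine Prod.ext h1 ?_
    show Finset.map _ (Finset.map _ x.2) = x.2
    rw [h1, Finset.map_map]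
    conv_rhs => rw [← Finset.map_refl (s := x.2)]
    congr 1
    ext h
    simp
  · intro T hT
    show Finset.map _ (Finset.map _ T) = T
    rw [Finset.map_map]
    conv_rhs => rw [← Finset.map_refl (s := T)]
    congr 1
    ext h
    simp
  · intro x hx
    rw [Finset.prod_map]
    rfl

/-- Elements close enough to one are `p`-th powers in a henselian ring. -/
theorem exists_pow_eq {V : Type*} [CommRing V] [HenselianLocalRing V] {p : ℕ} (hp : 2 ≤ p) {π : V}
    (hπ : π ∈ maximalIdeal V) (a : V) : ∃ c : V, c ^ p = 1 + (p : V) ^ 2 * π * a := by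
  obtain ⟨r, rfl⟩ : ∃ r, p = r + 2 := ⟨p - 2, by omega⟩
  let c : ℕ → V := fun j => ((r + 2).choose (j + 2) : V) * ((r + 2 : ℕ) : V) ^ j * (π * a) ^ j
  let h : V[X] := ∑ j ∈ Finset.range (r + 1), C (c j) * X ^ (r - j)
  let q : V[X] := X ^ (r + 2) - (X ^ (r + 1) + C (π * a) * h)
  have hdeg : (X ^ (r + 1) + C (π * a) * h).degree ≤ ((r + 1 : ℕ) : WithBot ℕ) := by
    refine (degree_add_le _ _).trans (max_le (degree_X_pow_le _) ((degree_mul_le _ _).trans ?_))
    refine le_trans (add_le_add (degree_C_le) (degree_sum_le _ _)) ?_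
    rw [zero_add]
    refine Finset.sup_le fun j _ => (degree_C_mul_X_pow_le _ _).trans ?_
    exact_mod_cast (by omega : r - j ≤ r + 1)
  have hmonic : q.Monic := monic_X_pow_sub (lt_of_le_of_lt hdeg (by exact_mod_cast Nat.lt_succ_self (r + 1)))
  have hπa : π * a ∈ maximalIdeal V := Ideal.mul_mem_right _ _ hπ
  have h1 : q.eval 1 ∈ maximalIdeal V := by
    have : q.eval 1 = -(π * a * h.eval 1) := by simp [q]
    rw [this]
    exact neg_mem (Ideal.mul_mem_right _ _ hπa)
  have h2 : IsUnit ((derivative q).eval 1) := by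
    have : (derivative q).eval 1 = 1 - π * a * (derivative h).eval 1 := by
      simp [q, derivative_X_pow]
    rw [this]
    exact IsLocalRing.isUnit_one_sub_self_of_mem_nonunits _ (Ideal.mul_mem_right _ _ hπa)
  obtain ⟨w, hw, hw1⟩ := HenselianLocalRing.is_henselian q hmonic 1 h1 h2
  have hwu : IsUnit w := by
    by_contra hwu
    have : (1 : V) ∈ maximalIdeal V := by
      have := sub_mem (show w ∈ maximalIdeal V from hwu) hw1
      simpa using this
    exact (maximalIdeal.isMaximal V).ne_top ((Ideal.eq_top_iff_one _).2 this)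
  obtain ⟨v, rfl⟩ := hwu
  refine ⟨1 + ((r + 2 : ℕ) : V) * (π * a) * ↑v⁻¹, ?_⟩
  refine (v.isUnit.pow (r + 2)).mul_right_cancel ?_
  rw [← mul_pow, add_mul, one_mul, mul_assoc (((r + 2 : ℕ) : V) * (π * a)), Units.inv_mul, mul_one]
  have hq : (v : V) ^ (r + 2) = (v : V) ^ (r + 1) + π * a * h.eval (v : V) := by
    have := hw
    simpa [q, IsRoot, sub_eq_zero] using this
  rw [add_comm (v : V), add_pow, Finset.sum_range_succ', Finset.sum_range_succ']
  simp only [h, eval_finsetSum, eval_mul, eval_C, eval_pow, eval_X, Finset.mul_sum] at hq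
  conv_rhs => rw [add_mul, one_mul, hq, mul_add, ← hq, Finset.mul_sum]
  simp only [zero_add, pow_one, pow_zero, one_mul, Nat.choose_one_right, Nat.choose_zero_right, Nat.cast_one, mul_one,
    tsub_zero]
  have hsum : ∀ j ∈ Finset.range (r + 1),
      (((r + 2 : ℕ) : V) * (π * a)) ^ (j + 1 + 1) * (v : V) ^ (r + 2 - (j + 1 + 1)) * ((r + 2).choose (j + 1 + 1) : V) =
      ((r + 2 : ℕ) : V) ^ 2 * π * a * (π * a * (c j * (v : V) ^ (r - j))) := fun j _ => by
    rw [show r + 2 - (j + 1 + 1) = r - j by omega]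
    simp only [c]
    ring
  rw [Finset.sum_congr rfl hsum]
  simp only [show r + 2 - 1 = r + 1 from rfl, ← Finset.mul_sum]
  ring


theorem dvd_of_map_dvd {V W : Type*} [CommRing V] [IsDomain V] [IsDiscreteValuationRing V] [CommRing W]
    (ι : V →+* W) [IsLocalHom ι] [IsDomain W] (hι : Function.Injective ι) {π : V} (hπ : Irreducible π) {x : V} (hx : x ≠ 0) {j : ℕ}
    (h : ι (π ^ j) ∣ ι x) : π ^ j ∣ x := by
  obtain ⟨m, u, rfl⟩ := IsDiscreteValuationRing.eq_unit_mul_pow_irreducible hx hπ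
  rcases le_or_gt j m with hle | hlt
  · exact (pow_dvd_pow π hle).mul_left _
  obtain ⟨d, rfl⟩ : ∃ d, j = m + (d + 1) := ⟨j - m - 1, by omega⟩
  rw [pow_add, map_mul, map_mul, mul_comm (ι (u : V))] at h
  have h1 : ι (π ^ (d + 1)) ∣ ι (u : V) :=
    (mul_dvd_mul_iff_left ((map_ne_zero_iff ι hι).2 (pow_ne_zero _ hπ.ne_zero))).1 h
  exact absurd ((isUnit_pow_iff (Nat.succ_ne_zero d)).1
    (IsUnit.of_map ι _ (isUnit_of_dvd_unit h1 (u.isUnit.map ι)))) hπ.not_isUnit

theorem isUnit_of_dvd_pow_succ {V : Type*} [CommRing V] [IsDomain V] (π : V) (hπ : π ≠ 0) (n : ℕ)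
    (h : π ^ (n + 1) ∣ π ^ n) : IsUnit π := by
  have h' : π ^ n * π ∣ π ^ n * 1 := by rwa [← pow_succ, mul_one]
  exact isUnit_of_dvd_one ((mul_dvd_mul_iff_left (pow_ne_zero n hπ)).1 h')

section Abstract

variable {G : Type*} [CommGroup G] [Fintype G] {V W : Type*} [CommRing V] [IsDomain V] [IsDiscreteValuationRing V]
  [IsAlgClosed (ResidueField V)] [CommRing W] [IsDomain W] (ι : V →+* W) [IsLocalHom ι] (σ : G → W →+* W) (T N : W → V) (p : ℕ) (π : V) (ϖ : W)

/-- One step of the successive approximation. -/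
theorem exists_norm_step [hp : Fact p.Prime] (hcard : Nat.card G = p) (hι : Function.Injective ι)
    (hσι : ∀ g a, σ g (ι a) = ι a) (hσ : ∀ g h w, σ (g * h) w = σ g (σ h w))
    (hT : ∀ w, ι (T w) = ∑ g, σ g w) (hN : ∀ w, ι (N w) = ∏ g, σ g w)
    (hπ : Irreducible π) (hϖ : Associated (ι π) (ϖ ^ p)) (hσϖ : ∀ g, Associated (σ g ϖ) ϖ)
    {i : ℕ} (hi : 1 ≤ i) (a : V) : ∃ w : W, π ^ (i + 1) ∣ N w - (1 + π ^ i * a) := by
  classical
  have hmod : ∀ x : V, residue V x = 0 ↔ π ∣ x := fun x => by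
    rw [residue_eq_zero_iff, hπ.maximalIdeal_eq, Ideal.mem_span_singleton]
  have hmodu : ∀ x : V, ¬ IsUnit x ↔ π ∣ x := fun x => by
    rw [← mem_nonunits_iff, ← IsLocalRing.mem_maximalIdeal, hπ.maximalIdeal_eq, Ideal.mem_span_singleton]
  have hcard' : (Finset.univ : Finset G).card = p := by
    rw [Finset.card_univ, ← Nat.card_eq_fintype_card, hcard]
  have hexp : ∀ z : W, ∃ y : ℕ → W, (∀ (n l : ℕ), ϖ ^ n ∣ z → ϖ ^ (l * n) ∣ y l) ∧
      N (1 + z) = 1 + T z + (∑ l ∈ Finset.Ico 2 p, T (y l)) + N z := fun z => by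
    have hl : ∀ l, ∃ y : W, (∀ n, ϖ ^ n ∣ z → ϖ ^ (l * n) ∣ y) ∧ (l ∈ Finset.Ico 2 p →
        ∑ U ∈ (Finset.univ : Finset G).powersetCard l, ∏ h ∈ U, σ h z = ι (T y)) := fun l => by
      by_cases hl : l ∈ Finset.Ico 2 p
      · rw [Finset.mem_Ico] at hl
        obtain ⟨S, hS, he⟩ := exists_esymm_eq_sum (fun h => σ h z) l (by
          rw [hcard]
          exact hp.out.coprime_iff_not_dvd.2 fun h => absurd (Nat.le_of_dvd (by omega) h) (by omega))
        refine ⟨∑ U ∈ S, ∏ h ∈ U, σ h z, fun n hn => Finset.dvd_sum fun U hU => ?_, fun _ => ?_⟩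
        · have h1 : ∀ h ∈ U, ϖ ^ n ∣ σ h z := fun h _ => by
            have := map_dvd (σ h) hn
            rw [map_pow] at this
            exact (Associated.dvd ((hσϖ h).pow_pow.symm)).trans this
          have h2 := Finset.prod_dvd_prod_of_dvd _ _ h1
          rwa [Finset.prod_const, ← pow_mul, hS U hU, mul_comm] at h2
        · rw [he, hT]
          refine Finset.sum_congr rfl fun g _ => ?_
          rw [map_sum]
          refine Finset.sum_congr rfl fun U _ => ?_
          rw [map_prod]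
          exact Finset.prod_congr rfl fun h _ => hσ g h z
      · exact ⟨0, fun n _ => dvd_zero _, fun h => absurd h hl⟩
    choose y hy1 hy2 using hl
    refine ⟨y, fun n l => hy1 l n, hι ?_⟩
    rw [hN, map_add, map_add, map_add, map_one, map_sum, hT, hN]
    simp only [map_add, map_one]
    rw [Finset.prod_one_add, Finset.sum_powerset, hcard', Finset.sum_range_succ,
      show Finset.range p = Finset.range 2 ∪ Finset.Ico 2 p from by
        ext x
        simp only [Finset.mem_union, Finset.mem_range, Finset.mem_Ico]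
        have := hp.out.two_le
        omega,
      Finset.sum_union (by
        rw [Finset.disjoint_left]
        intro x hx hx'
        simp only [Finset.mem_range, Finset.mem_Ico] at hx hx'
        omega),
      Finset.sum_range_succ, Finset.sum_range_one, Finset.powersetCard_zero, Finset.sum_singleton, Finset.prod_empty,
      Finset.powersetCard_one, Finset.sum_map, ← hcard', Finset.powersetCard_self, Finset.sum_singleton, hcard',
      Finset.sum_congr rfl fun l hl => hy2 l hl]
    simp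
  have hTmul : ∀ (c : V) w, T (ι c * w) = c * T w := fun c w => hι (by
    rw [hT, map_mul, hT, Finset.mul_sum]
    exact Finset.sum_congr rfl fun g _ => by rw [map_mul, hσι])
  have hNmul : ∀ (c : V) w, N (w * ι c) = N w * c ^ p := fun c w => hι (by
    rw [hN, map_mul, hN, map_pow, ← hcard', ← Finset.prod_const, ← Finset.prod_mul_distrib]
    exact Finset.prod_congr rfl fun g _ => by rw [map_mul, hσι])
  obtain ⟨v, hv⟩ := id hϖ
  -- divisibility of norms
  have hNdvd : ∀ (n : ℕ) (z : W), ϖ ^ n ∣ z → ι π ^ n ∣ ι (N z) := fun n z hz => by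
    rw [hN]
    have h1 : ∀ g ∈ (Finset.univ : Finset G), ϖ ^ n ∣ σ g z := fun g _ => by
      have := map_dvd (σ g) hz
      rw [map_pow] at this
      exact (Associated.dvd ((hσϖ g).pow_pow.symm)).trans this
    have h2 := Finset.prod_dvd_prod_of_dvd _ _ h1
    rw [Finset.prod_const, hcard', ← pow_mul, mul_comm, pow_mul, ← hv] at h2
    exact (pow_dvd_pow_of_dvd (dvd_mul_right _ _) n).trans h2
  have hbig : ∀ (n : ℕ) (z : W), ϖ ^ n ∣ z → p * (i + 1) ≤ n → π ^ (i + 1) ∣ T z := fun n z hz hn => by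
    obtain ⟨z', hz'⟩ := (pow_dvd_pow ϖ hn).trans hz
    refine ⟨T (↑(v ^ (i + 1)) * z'), ?_⟩
    rw [← hTmul, map_pow, hz', pow_mul, ← hv, mul_pow, Units.val_pow_eq_pow_val, mul_assoc]
  obtain ⟨n, hin, z, hz, t, ht, ht'⟩ : ∃ n, i ≤ n ∧ ∃ z : W, ϖ ^ n ∣ z ∧ ∃ t : V, T z = π ^ i * t ∧
      ((π ∣ t ∧ n = i ∧ z = ϖ ^ i ∧ ∀ w, ϖ ^ i ∣ w → π ^ (i + 1) ∣ T w) ∨
        (¬ π ∣ t ∧ ∀ w, ϖ ^ (n + 1) ∣ w → π ^ (i + 1) ∣ T w)) := by
    by_cases hA : ∀ w, ϖ ^ i ∣ w → π ^ (i + 1) ∣ T w
    · obtain ⟨t, ht⟩ := hA (ϖ ^ i) dvd_rfl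
      exact ⟨i, le_rfl, ϖ ^ i, dvd_rfl, π * t, by rw [ht, pow_succ, mul_assoc],
        Or.inl ⟨dvd_mul_right _ _, rfl, rfl, hA⟩⟩
    · let P : ℕ → Prop := fun n => ∃ w, ϖ ^ n ∣ w ∧ ¬ π ^ (i + 1) ∣ T w
      have hPi : P i := by
        push Not at hA
        exact hA
      have hle : i ≤ p * (i + 1) := le_trans (Nat.le_succ i) (Nat.le_mul_of_pos_left _ hp.out.pos)
      let n := Nat.findGreatest P (p * (i + 1))
      obtain ⟨z, hz, hz'⟩ : P n := Nat.findGreatest_spec hle hPi
      have hmax : ∀ w, ϖ ^ (n + 1) ∣ w → π ^ (i + 1) ∣ T w := fun w hw => by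
        by_cases hn : n + 1 ≤ p * (i + 1)
        · by_contra h
          exact Nat.findGreatest_is_greatest (P := P) (Nat.lt_succ_self n) hn ⟨w, hw, h⟩
        · exact hbig _ w hw (by omega)
      have h1 : π ^ (i + 1) ∣ π * T z := by
        rw [← hTmul]
        refine hmax _ ?_
        have h2 : ϖ ^ p * ϖ ^ n ∣ ι π * z := mul_dvd_mul (Associated.dvd' ⟨v, hv⟩) hz
        rw [← pow_add] at h2
        exact (pow_dvd_pow ϖ (by have := hp.out.two_le; omega)).trans h2
      obtain ⟨t, ht⟩ := h1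
      have ht2 : T z = π ^ i * t := mul_left_cancel₀ hπ.ne_zero (by rw [ht]; ring)
      refine ⟨n, Nat.le_findGreatest hle hPi, z, hz, t, ht2, Or.inr ⟨fun h => hz' ?_, hmax⟩⟩
      rw [ht2, pow_succ]
      exact mul_dvd_mul_left _ h
  obtain ⟨s, hs⟩ : ∃ s, N z = π ^ i * s := by
    by_cases h0 : N z = 0
    · exact ⟨0, by rw [h0, mul_zero]⟩
    exact dvd_of_map_dvd ι hι hπ h0 (by rw [map_pow]; exact (pow_dvd_pow _ hin).trans (hNdvd n z hz))
  have hsol : ∃ c : V, π ∣ t * c + s * c ^ p - a := by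
    let P : (ResidueField V)[X] := C (residue V s) * X ^ p + C (residue V t) * X - C (residue V a)
    have hP : P.degree ≠ 0 := fun hd => by
      have h1 := congrArg (fun f => Polynomial.coeff f p) (eq_C_of_degree_eq_zero hd)
      have h2 := congrArg (fun f => Polynomial.coeff f 1) (eq_C_of_degree_eq_zero hd)
      have hp0 := hp.out.ne_zero
      have hp1 := hp.out.ne_one
      simp [P, coeff_C, coeff_X_pow, coeff_X, hp0, hp1, Ne.symm hp1] at h1 h2
      rcases ht' with ⟨-, hn, hzi, -⟩ | ⟨ht'', -⟩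
      · rw [hmodu] at h1
        subst hn hzi
        obtain ⟨s', rfl⟩ := h1
        have h3 : ι (π ^ (n + 1)) ∣ ι π ^ n * 1 → False := fun h => by
          rw [mul_one, ← map_pow] at h
          exact hπ.not_isUnit (isUnit_of_dvd_pow_succ π hπ.ne_zero n
            (dvd_of_map_dvd ι hι hπ (pow_ne_zero _ hπ.ne_zero) h))
        refine h3 ?_
        have h4 : Associated (∏ g, σ g (ϖ ^ n)) (ι π ^ n) := by
          refine (Associated.prod Finset.univ (fun g => σ g (ϖ ^ n)) (fun _ => ϖ ^ n) (fun g _ => by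
            rw [map_pow]; exact (hσϖ g).pow_pow)).trans ?_
          rw [Finset.prod_const, hcard', ← pow_mul, mul_comm, pow_mul]
          exact (Associated.pow_pow ⟨v, hv⟩).symm
        rw [← hN, hs, ← mul_assoc, ← pow_succ, map_mul] at h4
        rw [mul_one]
        exact (dvd_mul_right _ _).trans h4.dvd
      · exact ht'' ((hmodu t).1 h2)
    obtain ⟨y, hy⟩ := IsAlgClosed.exists_root P hP
    obtain ⟨c, rfl⟩ := residue_surjective y
    refine ⟨c, (hmod _).1 ?_⟩
    simp only [P, IsRoot, eval_sub, eval_add, eval_mul, eval_C, eval_pow, eval_X] at hy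
    simp only [map_sub, map_add, map_mul, map_pow]
    linear_combination hy
  obtain ⟨c, hc⟩ := hsol
  refine ⟨1 + z * ι c, ?_⟩
  obtain ⟨y, hy, he⟩ := hexp (z * ι c)
  rw [he, mul_comm z (ι c), hTmul, mul_comm (ι c) z, hNmul, ht, hs]
  have hrest : π ^ (i + 1) ∣ ∑ l ∈ Finset.Ico 2 p, T (y l) := Finset.dvd_sum fun l hl => by
    rw [Finset.mem_Ico] at hl
    have hy' := hy n l (hz.trans (dvd_mul_right _ _))
    have h2n : n + 1 ≤ l * n := by
      have : 2 * n ≤ l * n := Nat.mul_le_mul_right n hl.1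
      omega
    rcases ht' with ⟨-, rfl, -, hA⟩ | ⟨-, hB⟩
    · exact hA _ ((pow_dvd_pow ϖ (by omega)).trans hy')
    · exact hB _ ((pow_dvd_pow ϖ h2n).trans hy')
  obtain ⟨r, hr⟩ := hc
  rw [show 1 + c * (π ^ i * t) + ∑ l ∈ Finset.Ico 2 p, T (y l) + π ^ i * s * c ^ p - (1 + π ^ i * a) =
    π ^ (i + 1) * r + ∑ l ∈ Finset.Ico 2 p, T (y l) by rw [pow_succ, mul_assoc _ π r, ← hr]; ring]
  exact dvd_add (dvd_mul_right _ _) hrest

end Abstract


/-- Norms from totally ramified extensions of degree `p` fill the units. -/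
theorem exists_norm_eq_unit {G : Type*} [CommGroup G] [Fintype G] {V W : Type*} [CommRing V] [IsDomain V]
    [IsDiscreteValuationRing V] [HenselianLocalRing V] [IsAlgClosed (ResidueField V)] [CommRing W] [IsDomain W]
    (ι : V →+* W) [IsLocalHom ι] (σ : G → W →+* W) (T N : W → V) (p : ℕ) [hp : Fact p.Prime] (π : V) (ϖ : W)
    (hcard : Nat.card G = p) (hι : Function.Injective ι)
    (hσι : ∀ g a, σ g (ι a) = ι a) (hσ : ∀ g h w, σ (g * h) w = σ g (σ h w))
    (hT : ∀ w, ι (T w) = ∑ g, σ g w) (hN : ∀ w, ι (N w) = ∏ g, σ g w)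
    (hπ : Irreducible π) (hϖ : Associated (ι π) (ϖ ^ p)) (hσϖ : ∀ g, Associated (σ g ϖ) ϖ)
    (hp0 : (p : V) ≠ 0) (u : Vˣ) : ∃ w : W, N w = u := by
  classical
  have hmod : ∀ x : V, residue V x = 0 ↔ π ∣ x := fun x => by
    rw [residue_eq_zero_iff, hπ.maximalIdeal_eq, Ideal.mem_span_singleton]
  have hmul : ∀ x y, N (x * y) = N x * N y := fun x y => hι (by
    rw [map_mul, hN, hN, hN, ← Finset.prod_mul_distrib]
    exact Finset.prod_congr rfl fun g _ => map_mul _ _ _)
  have hconst : ∀ c : V, N (ι c) = c ^ p := fun c => hι (by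
    rw [hN, map_pow, Finset.prod_congr rfl fun g _ => hσι g c, Finset.prod_const, Finset.card_univ,
      ← Nat.card_eq_fintype_card, hcard])
  have happrox : ∀ i : ℕ, ∃ w : W, π ^ (i + 1) ∣ N w - u := by
    intro i
    induction i with
    | zero =>
      obtain ⟨y, hy⟩ := IsAlgClosed.exists_pow_nat_eq (residue V (u : V)) hp.out.pos
      obtain ⟨c, rfl⟩ := residue_surjective y
      refine ⟨ι c, ?_⟩
      rw [hconst, pow_one, ← hmod, map_sub, map_pow, hy, sub_self]
    | succ i ih =>
      obtain ⟨w, r, hr⟩ := ih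
      obtain ⟨w', r', hr'⟩ := exists_norm_step ι σ T N p π ϖ hcard hι hσι hσ hT hN hπ hϖ hσϖ
        (Nat.le_add_left 1 i) (-(r * ↑u⁻¹))
      refine ⟨w * w', ?_⟩
      rw [hmul, sub_eq_iff_eq_add.1 hr, sub_eq_iff_eq_add.1 hr']
      refine ⟨r' * (u + π ^ (i + 1) * r) - r * r * π ^ i * ↑u⁻¹, ?_⟩
      have hu : (u : V) * ↑u⁻¹ = 1 := u.mul_inv
      linear_combination (-(π ^ (i + 1)) * r) * hu
  obtain ⟨j, v, hj⟩ := IsDiscreteValuationRing.eq_unit_mul_pow_irreducible
    (show (p : V) ^ 2 * π ≠ 0 from mul_ne_zero (pow_ne_zero _ hp0) hπ.ne_zero) hπ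
  obtain ⟨w, r, hr⟩ := happrox j
  have hwu : IsUnit (N w) := by
    rw [sub_eq_iff_eq_add.1 hr, ← isUnit_map_iff (residue V), map_add,
      (hmod _).2 (Dvd.dvd.mul_right (dvd_pow_self π (Nat.succ_ne_zero j)) r), zero_add]
    exact u.isUnit.map _
  obtain ⟨n, hn⟩ := hwu
  obtain ⟨c, hc⟩ := exists_pow_eq (p := p) hp.out.two_le (show π ∈ maximalIdeal V from hπ.not_isUnit)
    (-(π * ↑v⁻¹ * r * ↑n⁻¹))
  refine ⟨w * ι c, ?_⟩
  rw [hmul, hconst, hc, ← hn]
  rw [← hn] at hr
  have hv : (v : V) * ↑v⁻¹ = 1 := v.mul_inv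
  have hn' : (n : V) * ↑n⁻¹ = 1 := n.mul_inv
  linear_combination (-(π * ↑v⁻¹ * r * (n : V) * ↑n⁻¹)) * hj + (-(π ^ (j + 1) * r * (n : V) * ↑n⁻¹)) * hv +
    (-(π ^ (j + 1) * r)) * hn' + hr

/-- The norm condition for henselian DVRs with algebraically closed residue field. -/
theorem normP_wild (V L : Type u) [CommRing V] [IsDomain V] [IsDiscreteValuationRing V] [HenselianLocalRing V]
    [IsAlgClosed (ResidueField V)] [Field L] [Algebra V L] [IsFractionRing V L] (p : ℕ) [hp : Fact p.Prime]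
    (hp0 : (p : L) ≠ 0) : CdOneLib.NormP L p := by
  intro M _ _ _ _ hM b hb
  classical
  haveI : IsCyclic (M ≃ₐ[L] M) := isCyclic_of_prime_card (p := p) (by rw [IsGalois.card_aut_eq_finrank, hM])
  letI : CommGroup (M ≃ₐ[L] M) := IsCyclic.commGroup
  letI : Algebra V M := ((algebraMap L M).comp (algebraMap V L)).toAlgebra
  haveI : IsScalarTower V L M := IsScalarTower.of_algebraMap_eq fun _ => rfl
  let W := integralClosure V M
  haveI : Module.Finite V W := IsIntegralClosure.finite V L M W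
  haveI : IsDedekindDomain W := IsIntegralClosure.isDedekindDomain V L M W
  haveI : IsFractionRing W M := IsIntegralClosure.isFractionRing_of_finite_extension V L M W
  have hinjM : Function.Injective (algebraMap V M) :=
    (algebraMap L M).injective.comp (IsFractionRing.injective V L)
  have hinj : Function.Injective (algebraMap V W) := fun x y hxy => hinjM (congrArg Subtype.val hxy)
  haveI : IsLocalRing W := HensGRingLib.isLocalRing_of_finite_domain V W
  have hnf : ¬ IsField W := fun h =>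
    IsDiscreteValuationRing.not_isField V (isField_of_isIntegral_of_isField hinj h)
  haveI : IsDiscreteValuationRing W := ((IsDiscreteValuationRing.TFAE W hnf).out 0 2).2 ‹_›
  haveI : FaithfulSMul V W := (faithfulSMul_iff_algebraMap_injective V W).2 hinj
  haveI : Module.IsTorsionFree V W := inferInstance
  haveI : IsLocalHom (algebraMap V W) :=
    haveI : Algebra.IsIntegral V W := Algebra.IsIntegral.of_finite V W
    (algebraMap_isIntegral_iff.mpr ‹_›).isLocalHom hinj
  let σ : (M ≃ₐ[L] M) → W →+* W := fun g =>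
    (galRestrict V L M W g).toRingEquiv.toRingHom
  have hσval : ∀ g (w : W), (σ g w : M) = g (w : M) := fun g w => algebraMap_galRestrict_apply V g w
  have hσι : ∀ g a, σ g (algebraMap V W a) = algebraMap V W a := fun g a => (galRestrict V L M W g).commutes a
  have hσ : ∀ g h w, σ (g * h) w = σ g (σ h w) := fun g h w => Subtype.ext (by
    rw [hσval, hσval, hσval]; rfl)
  have hval : ∀ a : V, ((algebraMap V W a : W) : M) = algebraMap L M (algebraMap V L a) := fun a => rfl
  let T : W → V := Algebra.intTrace V W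
  let N : W → V := Algebra.intNorm V W
  have hTval : ∀ w : W, algebraMap V L (T w) = Algebra.trace L M (w : M) := fun w =>
    Algebra.algebraMap_intTrace (A := V) (K := L) (L := M) (B := W) w
  have hNval : ∀ w : W, algebraMap V L (N w) = Algebra.norm L (w : M) := fun w =>
    Algebra.algebraMap_intNorm (A := V) (K := L) (L := M) (B := W) w
  have hT : ∀ w, algebraMap V W (T w) = ∑ g, σ g w := fun w => Subtype.ext (by
    rw [hval, hTval, trace_eq_sum_automorphisms, AddSubmonoidClass.coe_finsetSum]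
    exact Finset.sum_congr rfl fun g _ => (hσval g w).symm)
  have hN : ∀ w, algebraMap V W (N w) = ∏ g, σ g w := fun w => Subtype.ext (by
    rw [hval, hNval, Algebra.norm_eq_prod_automorphisms, SubmonoidClass.coe_finsetProd]
    exact Finset.prod_congr rfl fun g _ => (hσval g w).symm)
  obtain ⟨π, hπ⟩ := IsDiscreteValuationRing.exists_irreducible V
  obtain ⟨ϖ, hϖ⟩ := IsDiscreteValuationRing.exists_irreducible W
  have hσϖ : ∀ g, Associated (σ g ϖ) ϖ := fun g =>
    IsDiscreteValuationRing.associated_of_irreducible W ((MulEquiv.irreducible_iff (galRestrict V L M W g)).2 hϖ) hϖ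
  have hπ0 : algebraMap V W π ≠ 0 := (map_ne_zero_iff _ hinj).2 hπ.ne_zero
  obtain ⟨e, he⟩ := IsDiscreteValuationRing.associated_pow_irreducible hπ0 hϖ
  have hcard : Nat.card (M ≃ₐ[L] M) = p := by rw [IsGalois.card_aut_eq_finrank, hM]
  have hNϖ : Associated (algebraMap V W (N ϖ)) (ϖ ^ p) := by
    rw [hN]
    refine (Associated.prod Finset.univ (fun g => σ g ϖ) (fun _ => ϖ) fun g _ => hσϖ g).trans ?_
    rw [Finset.prod_const, Finset.card_univ, ← Nat.card_eq_fintype_card, hcard]
    exact Associated.refl _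
  obtain ⟨m, hm⟩ := IsDiscreteValuationRing.associated_pow_irreducible (fun h0 : N ϖ = 0 => by
    rw [h0, map_zero] at hNϖ
    exact pow_ne_zero p hϖ.ne_zero ((hNϖ.eq_zero_iff).1 rfl)) hπ
  have hem : e * m = p := by
    have h1 : Associated (ϖ ^ (e * m)) (ϖ ^ p) := by
      rw [pow_mul]
      refine (he.symm.pow_pow).trans ?_
      rw [← map_pow]
      exact (Associated.map (algebraMap V W) hm.symm).trans hNϖ
    exact le_antisymm ((pow_dvd_pow_iff hϖ.ne_zero hϖ.not_isUnit).1 h1.dvd)
      ((pow_dvd_pow_iff hϖ.ne_zero hϖ.not_isUnit).1 h1.symm.dvd)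
  have hep : e = p := by
    rcases (Nat.dvd_prime hp.out).1 (Dvd.intro m hem) with h | h
    · exfalso
      subst h
      rw [pow_one] at he
      haveI : Algebra.IsAlgebraic (ResidueField V) (ResidueField W) := by
        haveI : Module.Finite (ResidueField V) (ResidueField W) := inferInstance
        exact Algebra.IsAlgebraic.of_finite _ _
      have hres : ∀ w : W, ∃ a : V, w - algebraMap V W a ∈ maximalIdeal W := fun w => by
        obtain ⟨a', ha'⟩ := (IsAlgClosed.algebraMap_bijective_of_isIntegral (k := ResidueField V) (K := ResidueField W)).2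
          (residue W w)
        obtain ⟨a, rfl⟩ := residue_surjective a'
        refine ⟨a, (residue_eq_zero_iff _).1 ?_⟩
        rw [map_sub, ← ha']
        exact sub_self _
      have htop : (⊤ : Submodule V W) ≤ LinearMap.range (Algebra.linearMap V W) := by
        refine Submodule.le_of_le_smul_of_le_jacobson_bot Module.Finite.fg_top
          (IsLocalRing.maximalIdeal_le_jacobson _) fun w _ => ?_
        obtain ⟨a, ha⟩ := hres w
        rw [hϖ.maximalIdeal_eq, Ideal.mem_span_singleton] at ha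
        obtain ⟨z, hz⟩ := he.dvd.trans ha
        refine Submodule.mem_sup.2 ⟨algebraMap V W a, ⟨a, rfl⟩, π • z, Submodule.smul_mem_smul
          (show π ∈ maximalIdeal V from hπ.not_isUnit) trivial, ?_⟩
        rw [Algebra.smul_def, ← hz, add_sub_cancel]
      have hbot : ∀ x : M, x ∈ (⊥ : IntermediateField L M) := fun x => by
        obtain ⟨w, d, -, rfl⟩ := IsFractionRing.div_surjective W x
        obtain ⟨a, rfl⟩ := htop (Submodule.mem_top (x := w))
        obtain ⟨c, rfl⟩ := htop (Submodule.mem_top (x := d))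
        show ((algebraMap V W a : W) : M) / ((algebraMap V W c : W) : M) ∈ _
        rw [hval, hval, ← map_div₀]
        exact IntermediateField.algebraMap_mem _ _
      have h2 := IntermediateField.finrank_top' (F := L) (E := M)
      rw [show (⊤ : IntermediateField L M) = ⊥ from eq_bot_iff.2 fun x _ => hbot x, IntermediateField.finrank_bot,
        hM] at h2
      exact hp.out.one_lt.ne h2
    · exact h
  subst hep
  have hm1 : m = 1 := by
    have := hp.out.pos
    exact Nat.eq_of_mul_eq_mul_left this (by rw [hem, mul_one])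
  subst hm1
  rw [pow_one] at hm
  have hp0' : (e : V) ≠ 0 := fun h => hp0 (by rw [← map_natCast (algebraMap V L), h, map_zero])
  -- every element is a norm
  obtain ⟨x, y, hy, rfl⟩ := IsFractionRing.div_surjective V b
  have key : ∀ z : V, z ≠ 0 → ∃ w : M, Algebra.norm L w = algebraMap V L z := fun z hz => by
    obtain ⟨k, u, rfl⟩ := IsDiscreteValuationRing.eq_unit_mul_pow_irreducible hz hπ
    obtain ⟨u', hu'⟩ := hm
    obtain ⟨w, hw⟩ := exists_norm_eq_unit (algebraMap V W) σ T N e π ϖ hcard hinj hσι hσ hT hN hπ he hσϖ hp0'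
      (u * u' ^ k)
    refine ⟨(w : M) * (ϖ : M) ^ k, ?_⟩
    rw [map_mul, map_pow, ← hNval, ← hNval, ← map_pow, ← map_mul, hw]
    congr 1
    rw [← hu', Units.val_mul, Units.val_pow_eq_pow_val, mul_pow]
    ring
  obtain ⟨wx, hwx⟩ := key x (fun h => hb (by rw [h, map_zero, zero_div]))
  obtain ⟨wy, hwy⟩ := key y (nonZeroDivisors.ne_zero hy)
  have hy0 : algebraMap V L y ≠ 0 := (map_ne_zero_iff _ (IsFractionRing.injective V L)).2 (nonZeroDivisors.ne_zero hy)
  have hwy0 : wy ≠ 0 := fun h => hy0 (by rw [← hwy, h, Algebra.norm_zero])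
  refine ⟨wx / wy, (eq_div_iff hy0).2 ?_⟩
  rw [← hwy, ← map_mul, div_mul_cancel₀ _ hwy0, hwx]

end HensDvrCdLib
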