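import Groth.Agent.HensDvrCdLib.Van
import Groth.Agent.HensDvrCdLib.Wild
import Groth.Agent.CdFieldLib.Curve
import Groth.Agent.S14620
import Groth.Agent.HensDvrCdLib.Field
import Groth.Agent.CdFieldLib.Killed
import Groth.Agent.CdFieldLib.Field
import Groth.Agent.EtHensLib.Basic
import Groth.Agent.CdPrimeLib.Push

/-!
# Upper bounds for fraction fields of henselian DVRs
-/

set_option autoImplicit false
set_option linter.all false
set_option backward.isDefEq.respectTransparency false
set_option backward.isDefEq.respectTransparency.types false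
set_option synthInstance.maxHeartbeats 400000
set_option maxHeartbeats 1000000

universe u

open CategoryTheory CategoryTheory.Limits CategoryTheory.Abelian AlgebraicGeometry Opposite IsLocalRing
open Groth.Agent Groth.Agent.EtShLib

attribute [local instance] EtSliceLib.pullExact

noncomputable section

namespace HensDvrCdLib

variable (R : Type u) [CommRing R] [IsDomain R] [IsDiscreteValuationRing R] (K : Type u) [Field K] [Algebra R K]
  [IsFractionRing R K]

/-- The strict localization. -/
theorem exists_strict_perfect [PerfectField (ResidueField R)] (π : R) (hπ : Irreducible π) :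
    ∃ (R' : Type u) (_ : CommRing R') (_ : IsDomain R') (_ : IsDiscreteValuationRing R') (_ : HenselianLocalRing R')
      (_ : IsAlgClosed (ResidueField R')) (φ : R →+* R'), Irreducible (φ π) ∧
      Nonempty (EtRpushStalkLib.Chart (Spec.map (CommRingCat.ofHom φ))) := by
  let X := Spec (CommRingCat.of R)
  let y : X := IsLocalRing.closedPoint R
  let T := X.presheaf.stalk y
  let R' := HenselLib.SH T
  have hS : Hensel.IsStrictHenselization T R' := inferInstance
  haveI := hS.henselian
  haveI : IsSepClosed (ResidueField R') := hS.isSepClosure.sep_closed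
  haveI : IsNoetherianRing R := inferInstance
  letI : Algebra R T := (StructureSheaf.toStalk R y).hom.toAlgebra
  haveI : IsLocalization.AtPrime T (maximalIdeal R) := StructureSheaf.IsLocalization.to_stalk R y
  let eT : R ≃ₐ[R] T := IsLocalization.atUnits R (maximalIdeal R).primeCompl (fun x hx => by
    by_contra h
    exact hx h)
  haveI : IsNoetherianRing T := isNoetherianRing_of_ringEquiv R eT.toRingEquiv
  haveI : IsNoetherianRing R' := (Groth.Agent.S0540.result T R').1 inferInstance
  let φ : R →+* R' := (algebraMap T R').comp (algebraMap R T)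
  have hmT : (maximalIdeal R).map (algebraMap R T) = maximalIdeal T := IsLocalization.AtPrime.map_eq_maximalIdeal _ T
  have hmax : maximalIdeal R' = Ideal.span {φ π} := by
    rw [← PairHensLib.map_maximalIdeal_of_isStrictHenselization T R', ← hmT, Ideal.map_map, hπ.maximalIdeal_eq,
      Ideal.map_span, Set.image_singleton]
  haveI : Module.Flat T R' := HenselLib.flat_hens (HenselLib.ker_scθ T)
  have hreg : φ π ∈ nonZeroDivisors R' := by
    rw [mem_nonZeroDivisors_iff_right]
    intro x hx
    have hne : algebraMap R T π ≠ 0 := fun h => hπ.ne_zero (eT.injective (by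
      rw [map_zero]; exact (eT.commutes π).trans h))
    haveI : IsDomain T := MulEquiv.isDomain R eT.toRingEquiv.symm.toMulEquiv
    have h1 := Module.Flat.isSMulRegular_of_isRegular (M := R') (isRegular_of_ne_zero hne)
    exact h1.right_eq_zero_of_smul (by rw [Algebra.smul_def, mul_comm]; exact hx)
  obtain ⟨hd, hv⟩ := isDomain_dvr R' (φ π) hmax hreg
  obtain ⟨C⟩ := EtRpushStalkLib.exists_chart (S := X) y R'
  have e : Hens2.specOf X y R' = Spec.map (CommRingCat.ofHom φ) := by
    show Spec.map (CommRingCat.ofHom (algebraMap T R')) ≫ X.fromSpecStalk y = _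
    rw [Scheme.Spec_fromSpecStalk, ← Spec.map_comp]
    rfl
  haveI : IsAlgClosed (ResidueField R') := by
    haveI : Algebra.IsSeparable (ResidueField T) (ResidueField R') := hS.isSepClosure.separable
    haveI : IsLocalHom (algebraMap R T) := ⟨fun a ha => by
      have h := ha.map eT.symm.toRingEquiv.toRingHom
      have e1 : eT.symm.toRingEquiv.toRingHom (algebraMap R T a) = a := eT.symm.commutes a
      rwa [e1] at h⟩
    haveI : PerfectField (ResidueField T) := by
      let g := ResidueField.map (algebraMap R T)
      letI := g.toAlgebra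
      haveI : Algebra.IsAlgebraic (ResidueField R) (ResidueField T) := ⟨fun z => by
        obtain ⟨t, rfl⟩ := residue_surjective z
        obtain ⟨a, rfl⟩ := eT.surjective t
        have h1 : residue T (eT a) = algebraMap (ResidueField R) (ResidueField T) (residue R a) :=
          congrArg (residue T) (eT.commutes a)
        rw [h1]
        exact isAlgebraic_algebraMap _⟩
      exact Algebra.IsAlgebraic.perfectField (K := ResidueField R)
    haveI : PerfectField (ResidueField R') := Algebra.IsAlgebraic.perfectField (K := ResidueField T)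
    infer_instance
  refine ⟨R', inferInstance, hd, hv, inferInstance, inferInstance, φ, ?_, ⟨e ▸ C⟩⟩
  exact (IsDiscreteValuationRing.irreducible_iff_uniformizer _).2 hmax

/-- The higher direct images of killed sheaves vanish in degrees at least two. -/
theorem isZero_Rpush_two_of_cdK {R' : Type u} [CommRing R'] [IsDomain R'] [IsDiscreteValuationRing R'] [HenselianLocalRing R']
    [IsSepClosed (ResidueField R')] (π : R) (hπ : Irreducible π) (φ : R →+* R') (hφ : Irreducible (φ π))
    (C : EtRpushStalkLib.Chart (Spec.map (CommRingCat.ofHom φ))) {l : ℕ} (hcd : CdFieldLib.CdK (Spec (CommRingCat.of (FractionRing R'))) l 1)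
    (G : EtCoh.Ab (Spec (CommRingCat.of K))) (hG : l • 𝟙 G = 0) (q : ℕ) (hq : 2 ≤ q) :
    IsZero ((EtCoh.Rpush (genPt R K) q).obj G) := by
  haveI : QuasiCompact (genPt R K) := inferInstance
  haveI : QuasiSeparated (genPt R K) := inferInstance
  obtain ⟨ψ, -, sq⟩ := exists_square R K π hπ R' φ hφ
  obtain ⟨Ω, _, _, R'', _, _, _, gS, a, b, sq'', ⟨C''⟩, hη⟩ := exists_gen_chart R K
  refine isZero_of_two R K π hπ φ hφ (closedPt R'' ≫ gS) hη _ ?_ ?_
  · obtain ⟨e⟩ := EtRpushStalkLib.nonempty_iso (genPt R K) sq C q
    haveI : (EtCoh.pull (Spec.map (CommRingCat.ofHom ψ))).Additive := (EtCoh.pullPushAdj _).left_adjoint_additive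
    refine (e.app G).addCommGroupIsoToAddEquiv.toEquiv.subsingleton_congr.2 ?_
    exact hcd _ (CdPrimeLib.nsmul_id_map (EtCoh.pull _) hG) q hq
  · obtain ⟨e⟩ := EtRpushStalkLib.nonempty_iso (genPt R K) sq'' C'' q
    haveI : (EtCoh.pull a).Additive := (EtCoh.pullPushAdj _).left_adjoint_additive
    refine (e.app G).addCommGroupIsoToAddEquiv.toEquiv.subsingleton_congr.2 ?_
    exact subsingleton_H_sepClosed Ω _ (CdPrimeLib.nsmul_id_map (EtCoh.pull a) hG) q (by omega)


/-- The `p`-dimension of the fraction field of a henselian DVR with algebraically closed residue field. -/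
theorem cdK_frac_wild (V : Type u) [CommRing V] [IsDomain V] [IsDiscreteValuationRing V] [HenselianLocalRing V]
    [IsAlgClosed (ResidueField V)] (L₀ : Type u) [Field L₀] [Algebra V L₀] [IsFractionRing V L₀]
    {p : ℕ} [hp : Fact p.Prime] (hp0 : (p : L₀) ≠ 0) :
    CdFieldLib.CdK (Spec (CommRingCat.of L₀)) p 1 := by
  have hH : CdOneLib.HypP L₀ p 2 := by
    refine CdOneLib.hypP_two_of_brP hp0 fun L _ _ _ _ => CdOneLib.brP_of_heredP L fun k' _ _ _ _ => ?_
    letI : Algebra L₀ k' := ((algebraMap L k').comp (algebraMap L₀ L)).toAlgebra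
    haveI : IsScalarTower L₀ L k' := IsScalarTower.of_algebraMap_eq fun _ => rfl
    haveI : FiniteDimensional L₀ k' := FiniteDimensional.trans L₀ L k'
    haveI : Algebra.IsSeparable L₀ k' := Algebra.IsSeparable.trans L₀ L k'
    letI : Algebra V k' := ((algebraMap L₀ k').comp (algebraMap V L₀)).toAlgebra
    haveI : IsScalarTower V L₀ k' := IsScalarTower.of_algebraMap_eq fun _ => rfl
    let S := integralClosure V k'
    haveI : Module.Finite V S := IsIntegralClosure.finite V L₀ k' S
    haveI : IsDedekindDomain S := IsIntegralClosure.isDedekindDomain V L₀ k' S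
    haveI : IsFractionRing S k' := IsIntegralClosure.isFractionRing_of_finite_extension V L₀ k' S
    have hinjL : Function.Injective (algebraMap V k') :=
      (algebraMap L₀ k').injective.comp (IsFractionRing.injective V L₀)
    have hinj : Function.Injective (algebraMap V S) := fun x y hxy => hinjL (congrArg Subtype.val hxy)
    haveI : IsLocalRing S := HensGRingLib.isLocalRing_of_finite_domain V S
    have hnf : ¬ IsField S := fun h =>
      IsDiscreteValuationRing.not_isField V (isField_of_isIntegral_of_isField hinj h)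
    haveI : IsDiscreteValuationRing S := ((IsDiscreteValuationRing.TFAE S hnf).out 0 2).2 ‹_›
    haveI : IsLocalHom (algebraMap V S) :=
      haveI : Algebra.IsIntegral V S := Algebra.IsIntegral.of_finite V S
      (algebraMap_isIntegral_iff.mpr ‹_›).isLocalHom hinj
    haveI : HenselianLocalRing S := (Groth.Agent.S14620.result (algebraMap V S) (RingHom.finite_algebraMap.2 ‹_›)
      ⟨inferInstance, inferInstance⟩).1
    haveI : IsAlgClosed (ResidueField S) := IsAlgClosed.of_ringEquiv (ResidueField V) (ResidueField S)
      (RingEquiv.ofBijective (algebraMap (ResidueField V) (ResidueField S))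
        IsAlgClosed.algebraMap_bijective_of_isIntegral)
    exact normP_wild S k' p (by rw [← map_natCast (algebraMap L₀ k')]; exact (_root_.map_ne_zero _).2 hp0)
  intro F hF q hq
  refine subsingleton_of_forall_eq 0 fun x => ?_
  exact CdOneLib.eq_zero_of_hypP p (hH.of_le (by omega) (by omega)) F
    (CdOneLib.isTorsion_of_nsmul_id p hp.out.pos hF) x ⟨1, by rw [pow_one]; exact CdOneLib.nsmul_ext p hF x⟩

/-- The spectrum of a henselian local ring has the cohomological dimension of its closed point. -/
theorem cdK_spec_of_residue (R : Type u) [CommRing R] [HenselianLocalRing R] {l d : ℕ}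
    (h : CdFieldLib.CdK (Spec (CommRingCat.of (ResidueField R))) l d) :
    CdFieldLib.CdK (Spec (CommRingCat.of R)) l d := fun F hF q hq => by
  haveI : (EtCoh.pull (EtHensLib.cp R)).Additive := (EtCoh.pullPushAdj _).left_adjoint_additive
  haveI := h ((EtCoh.pull (EtHensLib.cp R)).obj F) (CdPrimeLib.nsmul_id_map (EtCoh.pull _) hF) q hq
  exact (EtHensLib.bijective_Hpull (A := R) F q).1.subsingleton

/-- The fraction field adds at most one. -/
theorem cdK_generic_le [HenselianLocalRing R] {l d : ℕ} (hl : 0 < l)
    (hR : ∀ (G : EtCoh.Ab (Spec (CommRingCat.of K))), l • 𝟙 G = 0 → ∀ s, IsZero ((EtCoh.Rpush (genPt R K) (s + 2)).obj G))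
    (h : CdFieldLib.CdK (Spec (CommRingCat.of (ResidueField R))) l d) :
    CdFieldLib.CdK (Spec (CommRingCat.of K)) l (d + 1) := by
  have h' := cdK_spec_of_residue R h
  let f := genPt R K
  intro F hF q hq
  obtain ⟨p, rfl⟩ : ∃ p, q = p + 2 := ⟨q - 2, by omega⟩
  obtain ⟨J, m, hm, hJ, hJR, hJH⟩ := EtBcKilledLib.exists_embed' hl F ((EtBcKilledLib.killed_iff F).2 hF)
  let S : ShortComplex (EtCoh.Ab (Spec (CommRingCat.of K))) := ShortComplex.mk m (cokernel.π m) (cokernel.condition m)
  have hS : S.ShortExact := { exact := ShortComplex.exact_of_g_is_cokernel _ (cokernelIsCokernel _) }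
  have hC : l • 𝟙 S.X₃ = 0 := (EtBcKilledLib.killed_iff _).1 (EtBcKilledLib.killed_cokernel m hJ)
  have hCR : ∀ j, 0 < j → IsZero ((EtCoh.Rpush f j).obj S.X₃) := fun j hj => by
    obtain ⟨s, rfl⟩ : ∃ s, j = s + 1 := ⟨j - 1, by omega⟩
    let D := EtCechInjLib.derDelta (EtCoh.push f)
    haveI : IsIso (D.δ hS (s + 1)) := D.isIso_δ hS (s + 1) (hJR f s) (hJR f (s + 1))
    exact IsZero.of_iso (hR F hF s) (asIso (D.δ hS (s + 1)))
  haveI : (EtCoh.push f).Additive := { }
  haveI := h' ((EtCoh.push f).obj S.X₃) (CdPrimeLib.nsmul_id_map (EtCoh.push f) hC) (p + 1) (by omega)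
  haveI : Subsingleton (EtCoh.H (Spec (CommRingCat.of K)) S.X₃ (p + 1)) :=
    (Groth.Agent.S14451.result f S.X₃ hCR (p + 1)).2.subsingleton
  refine subsingleton_of_forall_eq 0 fun x => ?_
  obtain ⟨y, hy⟩ := Ext.covariant_sequence_exact₁ (EtCoh.const (Spec (CommRingCat.of K)) ℤ) hS x
    (@Subsingleton.elim _ (hJH (p + 1)) _ _) (show p + 1 + 1 = p + 2 from rfl)
  rw [← hy, Subsingleton.elim (α := EtCoh.H _ S.X₃ (p + 1)) y 0, Ext.zero_comp]

end HensDvrCdLib
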