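import Groth.Agent.HensDvrCdLib.Lower
import Groth.Agent.CdOneLib.NormBr
import Groth.Agent.EtTransferLib.Field
import Mathlib.RingTheory.Norm.Transitivity
import Mathlib.RingTheory.Polynomial.GaussLemma

/-!
# Lower bounds for the `p`-dimension of fraction fields of henselian DVRs
-/

set_option autoImplicit false
set_option linter.all false
set_option backward.isDefEq.respectTransparency false
set_option backward.isDefEq.respectTransparency.types false
set_option synthInstance.maxHeartbeats 400000
set_option maxHeartbeats 1000000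

universe u

open CategoryTheory CategoryTheory.Limits CategoryTheory.Abelian AlgebraicGeometry IsLocalRing Polynomial
open Groth.Agent Groth.Agent.EtShLib EtSliceLib EtTransferLib EtBrLib

attribute [local instance] EtSliceLib.pullExact

noncomputable section

namespace HensDvrCdLib

/-- The fraction field of a DVR has positive cohomological dimension at every invertible prime. -/
theorem one_le_of_cdK (S E : Type u) [CommRing S] [IsDomain S] [IsDiscreteValuationRing S] [Field E] [Algebra S E]
    [IsFractionRing S E] {l : ℕ} [hl : Fact l.Prime] (hlE : (l : E) ≠ 0) (n : ℕ)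
    (h : CdFieldLib.CdK (Spec (CommRingCat.of E)) l n) : 1 ≤ n := by
  by_contra hn
  obtain ⟨π, hπ⟩ := IsDiscreteValuationRing.exists_irreducible S
  have hπ0 : algebraMap S E π ≠ 0 := (map_ne_zero_iff _ (IsFractionRing.injective S E)).2 hπ.ne_zero
  have hS := EtKummerLib.kummer_shortExact (CdOneLib.invertibleOn_field hlE)
  haveI := h (EtCoh.mu _ l) (nsmul_id_mu _ l) 1 (by omega)
  obtain ⟨f, hf⟩ := exists_unitVal (E := E) _ hπ0
  obtain ⟨x, hx⟩ := Ext.covariant_sequence_exact₃ (EtCoh.const (Spec (CommRingCat.of E)) ℤ) hS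
    (Ext.mk₀ f) (rfl : 0 + 1 = 1) (Subsingleton.elim (α := EtCoh.H _ (EtCoh.mu _ l) 1) _ _)
  obtain ⟨g, rfl⟩ := (Ext.mk₀_bijective _ _).2 x
  rw [Ext.mk₀_comp_mk₀] at hx
  have h1 : l • g = f := by
    rw [← (Ext.mk₀_bijective _ _).1 hx]
    show l • g = g ≫ (l • 𝟙 _)
    rw [Preadditive.comp_nsmul, Category.comp_id]
  exact not_pow_eq S π hπ hl.out.two_le (unitVal g) (by rw [← unitVal_nsmul, h1, hf])

/-- No `p`-torsion in the Brauer group of a field of `p`-dimension at most one. -/
theorem brP_of_cdK {E : Type u} [Field E] {l : ℕ} (hlE : (l : E) ≠ 0)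
    (h : CdFieldLib.CdK (Spec (CommRingCat.of E)) l 1) : CdOneLib.BrP E l := fun x hx => by
  have hS := EtKummerLib.kummer_shortExact (CdOneLib.invertibleOn_field hlE)
  haveI := h (EtCoh.mu _ l) (nsmul_id_mu _ l) 2 (by omega)
  obtain ⟨y, hy⟩ := Ext.covariant_sequence_exact₂ (EtCoh.const (Spec (CommRingCat.of E)) ℤ) hS
    (x : Ext.{u + 1} _ _ 2) (by
      show Ext.comp (x : Ext.{u + 1} _ _ 2) (Ext.mk₀ (l • 𝟙 _)) (add_zero 2) = 0
      rw [EtTransferLib.comp_mk₀_nsmul]
      exact hx)
  rw [← hy, show y = 0 from Subsingleton.elim (α := EtCoh.H _ (EtCoh.mu _ l) 2) _ _, Ext.zero_comp]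

/-- A uniformizer is not a norm from an unramified extension of degree `p`. -/
theorem false_of_galois (S : Type u) [CommRing S] [IsDomain S] [IsDiscreteValuationRing S] [HenselianLocalRing S]
    (N : Type u) [Field N] [Algebra (ResidueField S) N] [FiniteDimensional (ResidueField S) N]
    [IsGalois (ResidueField S) N] (p : ℕ) [hp : Fact p.Prime] (hN : Module.finrank (ResidueField S) N = p)
    (hBr : CdOneLib.BrP (FractionRing S) p) : False := by
  classical
  let k := ResidueField S
  let E := FractionRing S
  obtain ⟨π, hπ⟩ := IsDiscreteValuationRing.exists_irreducible S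
  obtain ⟨θ, hθ⟩ := Field.exists_primitive_element k N
  have hint : IsIntegral k θ := Algebra.IsIntegral.isIntegral θ
  let g₀ := minpoly k θ
  have hdeg : g₀.natDegree = p := by
    rw [← IntermediateField.adjoin.finrank hint, hθ, IntermediateField.finrank_top', hN]
  have hlift : g₀ ∈ Polynomial.lifts (residue S) :=
    (lifts_iff_coeff_lifts _).2 fun n => residue_surjective _
  obtain ⟨g, hg, hgdeg, hgm⟩ := lifts_and_natDegree_eq_and_monic hlift (minpoly.monic hint)
  rw [hdeg] at hgdeg
  have hgirr : Irreducible g := hgm.irreducible_of_irreducible_map (residue S) g (by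
    rw [hg]; exact minpoly.irreducible hint)
  let gE := g.map (algebraMap S E)
  have hgEirr : Irreducible gE := (hgm.irreducible_iff_irreducible_map_fraction_map (K := E)).1 hgirr
  haveI : Fact (Irreducible gE) := ⟨hgEirr⟩
  let A := AdjoinRoot g
  haveI : Module.Finite S A := hgm.finite_adjoinRoot
  haveI : Module.Free S A := hgm.free_adjoinRoot
  let ψ : A →+* N := AdjoinRoot.lift ((algebraMap k N).comp (residue S)) θ (by
    rw [← eval₂_map, hg]
    exact minpoly.aeval k θ)
  have hψS : ∀ s : S, ψ (algebraMap S A s) = algebraMap k N (residue S s) := fun s => AdjoinRoot.lift_of _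
  have hψmk : ∀ P : S[X], ψ (AdjoinRoot.mk g P) = aeval θ (P.map (residue S)) := fun P => by
    rw [AdjoinRoot.lift_mk, aeval_def, eval₂_map]
  have hsurj : Function.Surjective ψ := fun y => by
    have hy : y ∈ Algebra.adjoin k ({θ} : Set N) := by
      rw [← IntermediateField.adjoin_simple_toSubalgebra_of_isAlgebraic hint.isAlgebraic, hθ]
      trivial
    rw [Algebra.adjoin_singleton_eq_range_aeval] at hy
    obtain ⟨Q, rfl⟩ := hy
    obtain ⟨P, hP⟩ := (Polynomial.map_surjective (residue S) residue_surjective) Q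
    exact ⟨AdjoinRoot.mk g P, by rw [hψmk, hP]; rfl⟩
  have hker : RingHom.ker ψ = Ideal.span {algebraMap S A π} := by
    refine le_antisymm (fun a ha => ?_) ?_
    · obtain ⟨P, rfl⟩ := AdjoinRoot.mk_surjective a
      rw [RingHom.mem_ker, hψmk] at ha
      have h0 : (P %ₘ g).map (residue S) = 0 := by
        by_contra h
        have h1 : aeval θ ((P %ₘ g).map (residue S)) = 0 := by
          rw [modByMonic_eq_sub_mul_div P g, Polynomial.map_sub, Polynomial.map_mul, map_sub, map_mul, ha, hg,
            minpoly.aeval, zero_mul, sub_zero]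
        have h2 : g₀.natDegree ≤ _ := natDegree_le_natDegree (minpoly.degree_le_of_ne_zero k θ h h1)
        have h3 : (P %ₘ g).natDegree < g.natDegree := natDegree_modByMonic_lt P hgm (fun h' => by
          have := hp.out.pos
          rw [h', natDegree_one] at hgdeg
          omega)
        have h4 := (natDegree_map_le (f := residue S) (p := P %ₘ g))
        omega
      rw [AdjoinRoot.mk_eq_mk.2 (show g ∣ P - P %ₘ g from ⟨P /ₘ g, by
        rw [modByMonic_eq_sub_mul_div P g]; ring⟩), Ideal.mem_span_singleton]
      have h5 : C π ∣ P %ₘ g := (C_dvd_iff_dvd_coeff _ _).2 fun i => by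
        rw [← Ideal.mem_span_singleton, ← hπ.maximalIdeal_eq, ← residue_eq_zero_iff, ← coeff_map, h0, coeff_zero]
      exact map_dvd (AdjoinRoot.mk g) h5
    · rw [Ideal.span_le, Set.singleton_subset_iff, SetLike.mem_coe, RingHom.mem_ker, hψS,
        (residue_eq_zero_iff π).2 hπ.not_isUnit, map_zero]
  have hmax : (RingHom.ker ψ).IsMaximal := RingHom.ker_isMaximal_of_surjective ψ hsurj
  have huniq : ∀ M : Ideal A, M.IsMaximal → M = RingHom.ker ψ := fun M hM => by
    haveI := hM
    have h1 : M.comap (algebraMap S A) = maximalIdeal S :=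
      IsLocalRing.eq_maximalIdeal (Ideal.isMaximal_comap_of_isIntegral_of_isMaximal M)
    refine (hmax.eq_of_le hM.ne_top ?_).symm
    rw [hker, Ideal.span_le, Set.singleton_subset_iff]
    show π ∈ M.comap (algebraMap S A)
    rw [h1]; exact hπ.not_isUnit
  haveI : IsLocalRing A := IsLocalRing.of_unique_max_ideal ⟨_, hmax, huniq⟩
  have hmA : maximalIdeal A = RingHom.ker ψ := huniq _ (maximalIdeal.isMaximal A)
  obtain ⟨hH, -⟩ := QfHensFiniteLib.henselianLocalRing_of_finite (A := S) A
  haveI := hH
  haveI : IsNoetherianRing A := isNoetherian_of_tower S inferInstance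
  have hreg : algebraMap S A π ∈ nonZeroDivisors A := by
    rw [mem_nonZeroDivisors_iff_right]
    intro x hx
    have h1 := Module.Flat.isSMulRegular_of_isRegular (M := A) (isRegular_of_ne_zero hπ.ne_zero)
    exact h1.right_eq_zero_of_smul (by rw [Algebra.smul_def, mul_comm]; exact hx)
  obtain ⟨hd, hv⟩ := isDomain_dvr A (algebraMap S A π) (hmA.trans hker) hreg
  haveI := hd; haveI := hv
  let E' := AdjoinRoot gE
  haveI : FiniteDimensional E E' := (hgm.map (algebraMap S E)).finite_adjoinRoot
  let f : A →+* E' := AdjoinRoot.lift (algebraMap S E') (AdjoinRoot.root gE) (by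
    rw [IsScalarTower.algebraMap_eq S E E', ← eval₂_map]
    exact AdjoinRoot.eval₂_root gE)
  have hfS : ∀ s : S, f (algebraMap S A s) = algebraMap S E' s := fun s => AdjoinRoot.lift_of _
  -- the roots
  let T := g₀.rootSet N
  have hT : Fintype.card T = p := by
    rw [card_rootSet_eq_natDegree (Algebra.IsSeparable.isSeparable k θ) (Normal.splits inferInstance θ), hdeg]
  have hroot : ∀ x : T, ∃ r : A, (g.map (algebraMap S A)).eval r = 0 ∧ ψ r = x := fun x => by
    obtain ⟨r₀, hr₀⟩ := hsurj (x : N)
    have hev : ∀ Q : S[X], ψ ((Q.map (algebraMap S A)).eval r₀) = aeval (x : N) (Q.map (residue S)) := fun Q => by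
      rw [← hr₀, Polynomial.eval_map, hom_eval₂, aeval_def, eval₂_map,
        show ψ.comp (algebraMap S A) = (algebraMap k N).comp (residue S) from RingHom.ext hψS]
    have hx := (mem_rootSet.1 x.2).2
    obtain ⟨r, hr, hr'⟩ := HenselianLocalRing.is_henselian _ (hgm.map (algebraMap S A)) r₀
      (by rw [hmA, RingHom.mem_ker, hev, hg]; exact hx)
      (by
        rw [← IsLocalRing.notMem_maximalIdeal, hmA, RingHom.mem_ker, derivative_map, hev, ← derivative_map, hg]
        exact (Algebra.IsSeparable.isSeparable k θ).aeval_derivative_ne_zero hx)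
    refine ⟨r, hr, ?_⟩
    rw [hmA, RingHom.mem_ker, map_sub, sub_eq_zero] at hr'
    rw [hr', hr₀]
  choose r hr hrψ using hroot
  have hinj : Function.Injective fun x : T => f (r x) := fun x y hxy => by
    by_contra hne
    have hu : IsUnit (r x - r y) := by
      rw [← IsLocalRing.notMem_maximalIdeal, hmA, RingHom.mem_ker, map_sub, hrψ, hrψ, sub_eq_zero]
      exact fun h => hne (Subtype.ext h)
    exact (hu.map f).ne_zero (by rw [map_sub, sub_eq_zero]; exact hxy)
  have hgE' : gE.map (algebraMap E E') = (g.map (algebraMap S A)).map f := by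
    rw [Polynomial.map_map, Polynomial.map_map]
    congr 1
    exact RingHom.ext fun s => by
      rw [RingHom.comp_apply, RingHom.comp_apply, hfS, ← IsScalarTower.algebraMap_apply]
  have hdegE : (gE.map (algebraMap E E')).natDegree = p := by
    rw [natDegree_map, hgm.natDegree_map, hgdeg]
  have hsplit : (gE.map (algebraMap E E')).Splits := by
    rw [splits_iff_card_roots, hdegE]
    refine le_antisymm ((card_roots' _).trans hdegE.le) ?_
    have hsub : (Finset.univ.image fun x : T => f (r x)) ⊆ (gE.map (algebraMap E E')).roots.toFinset := fun z hz => by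
      obtain ⟨x, -, rfl⟩ := Finset.mem_image.1 hz
      rw [Multiset.mem_toFinset, mem_roots (by intro h; rw [h, natDegree_zero] at hdegE; exact hp.out.ne_zero hdegE.symm),
        IsRoot, hgE', eval_map_apply, hr, map_zero]
    have h := (Finset.card_le_card hsub).trans (Multiset.toFinset_card_le _)
    rwa [Finset.card_image_of_injective _ hinj, Finset.card_univ, hT] at h
  have hne : gE.map (algebraMap E E') ≠ 0 := fun h => by
    rw [h, natDegree_zero] at hdegE
    exact hp.out.ne_zero hdegE.symm
  have hsepE : gE.Separable := by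
    rw [← separable_map (algebraMap E E'), ← nodup_roots_iff_of_splits hne hsplit,
      ← Multiset.toFinset_card_eq_card_iff_nodup]
    refine le_antisymm (Multiset.toFinset_card_le _) ?_
    have hsub : (Finset.univ.image fun x : T => f (r x)) ⊆ (gE.map (algebraMap E E')).roots.toFinset := fun z hz => by
      obtain ⟨x, -, rfl⟩ := Finset.mem_image.1 hz
      rw [Multiset.mem_toFinset, mem_roots hne, IsRoot, hgE', eval_map_apply, hr, map_zero]
    have h := Finset.card_le_card hsub
    rw [Finset.card_image_of_injective _ hinj, Finset.card_univ, hT] at h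
    exact ((card_roots' _).trans hdegE.le).trans h
  haveI : IsSplittingField E E' gE := ⟨hsplit, eq_top_iff.2 (by
    rw [← AdjoinRoot.adjoinRoot_eq_top]
    refine Algebra.adjoin_mono (Set.singleton_subset_iff.2 ?_)
    exact mem_rootSet.2 ⟨(hgm.map _).ne_zero, AdjoinRoot.eval₂_root gE⟩)⟩
  haveI : IsGalois E E' := IsGalois.of_separable_splitting_field hsepE
  have hfr : Module.finrank E E' = p := by
    rw [PowerBasis.finrank (AdjoinRoot.powerBasis hgEirr.ne_zero), AdjoinRoot.powerBasis_dim, hgm.natDegree_map, hgdeg]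
  have hπE : algebraMap S E π ≠ 0 := (map_ne_zero_iff _ (IsFractionRing.injective S E)).2 hπ.ne_zero
  obtain ⟨x, hx⟩ := CdOneLib.exists_norm_of_brP E E' hfr hBr (algebraMap S E π) hπE
  obtain ⟨P, rfl⟩ := AdjoinRoot.mk_surjective x
  obtain ⟨⟨b, hb⟩, hP⟩ := IsLocalization.integerNormalization_map_to_map (nonZeroDivisors S) P
  let a : A := AdjoinRoot.mk g (IsLocalization.integerNormalization (nonZeroDivisors S) P)
  have hfa : f a = algebraMap E E' (algebraMap S E b) * AdjoinRoot.mk gE P := by
    rw [AdjoinRoot.lift_mk, IsScalarTower.algebraMap_eq S E E', ← eval₂_map, hP,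
      ← aeval_def, AdjoinRoot.aeval_eq, Algebra.smul_def, map_mul]
    rfl
  have hb0 : algebraMap S E b ≠ 0 := (map_ne_zero_iff _ (IsFractionRing.injective S E)).2 (nonZeroDivisors.ne_zero hb)
  have hnorm : Algebra.norm E (f a) = algebraMap S E (b ^ p * π) := by
    rw [hfa, map_mul, Algebra.norm_algebraMap, hfr, hx, map_mul, map_pow]
  have ha0 : a ≠ 0 := fun h => by
    rw [h, map_zero, Algebra.norm_zero] at hnorm
    exact mul_ne_zero (pow_ne_zero p (nonZeroDivisors.ne_zero hb)) hπ.ne_zero
      (IsFractionRing.injective S E (by rw [map_zero]; exact hnorm.symm))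
  have hπA : Irreducible (algebraMap S A π) :=
    (IsDiscreteValuationRing.irreducible_iff_uniformizer _).2 (hmA.trans hker)
  obtain ⟨m, u, hu⟩ := IsDiscreteValuationRing.eq_unit_mul_pow_irreducible ha0 hπA
  have hS : ∀ v : A, ∃ s : S, algebraMap S E s = Algebra.norm E (f v) := fun v => by
    have h1 : IsIntegral S (f v) :=
      (Algebra.IsIntegral.isIntegral (R := S) v).map ({ f with commutes' := hfS } : A →ₐ[S] E')
    exact IsIntegrallyClosed.isIntegral_iff.1 (Algebra.isIntegral_norm E h1)
  obtain ⟨s, hs⟩ := hS u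
  obtain ⟨s', hs'⟩ := hS (↑u⁻¹ : A)
  have hss : s * s' = 1 := IsFractionRing.injective S E (by
    rw [map_mul, hs, hs', ← map_mul, ← map_mul, Units.mul_inv, map_one, map_one, map_one])
  rw [hu, map_mul, map_mul, map_pow, map_pow, hfS, IsScalarTower.algebraMap_apply S E E', Algebra.norm_algebraMap, hfr,
    ← hs, ← map_pow, ← map_pow, ← map_mul] at hnorm
  have key := IsFractionRing.injective S E hnorm
  obtain ⟨j, v, hbv⟩ := IsDiscreteValuationRing.eq_unit_mul_pow_irreducible (nonZeroDivisors.ne_zero hb) hπ
  obtain ⟨s₀, rfl⟩ := IsUnit.of_mul_eq_one _ hss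
  rw [hbv, mul_pow, mul_assoc, ← pow_mul π j, ← pow_succ, ← Units.val_pow_eq_pow_val, ← pow_mul π p] at key
  have h2 := IsDiscreteValuationRing.unit_mul_pow_congr_pow hπ hπ s₀ (v ^ p) _ _ key
  have h3 : p ∣ 1 := (Nat.dvd_add_right (dvd_mul_left p j)).1 (h2 ▸ dvd_mul_right p m)
  exact hp.out.one_lt.ne' (Nat.dvd_one.1 h3)


/-- A field all of whose finite separable extensions have degree prime to `p`. -/
theorem cdK_zero_of_degrees {k : Type u} [Field k] {p : ℕ} [hp : Fact p.Prime]
    (h : ∀ (N : Type u) [Field N] [Algebra k N] [FiniteDimensional k N] [Algebra.IsSeparable k N],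
      ¬ p ∣ Module.finrank k N) : CdFieldLib.CdK (Spec (CommRingCat.of k)) p 0 := fun F hF q hq => by
  obtain ⟨n, rfl⟩ : ∃ n, q = n + 1 := ⟨q - 1, by omega⟩
  refine subsingleton_of_forall_eq 0 fun x => ?_
  obtain ⟨N, _, _, _, _, hN⟩ := EtTransferLib.exists_field_kill k x
  have h2 := finrank_nsmul k N x hN
  have h3 : p • x = 0 := CdOneLib.nsmul_ext p hF x
  have h4 : Nat.gcd p (Module.finrank k N) • x = 0 := gcd_nsmul_eq_zero.2 ⟨h3, h2⟩
  rwa [(hp.out.coprime_iff_not_dvd.2 (h N)).gcd_eq_one, one_nsmul] at h4

/-- If the fraction field has `p`-dimension at most one, the residue field has `p`-dimension zero. -/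
theorem cdK_zero_residue (R K : Type u) [CommRing R] [IsDomain R] [IsDiscreteValuationRing R] [HenselianLocalRing R]
    [Field K] [Algebra R K] [IsFractionRing R K] {p : ℕ} [hp : Fact p.Prime] (hpK : (p : K) ≠ 0)
    (h : CdFieldLib.CdK (Spec (CommRingCat.of K)) p 1) :
    CdFieldLib.CdK (Spec (CommRingCat.of (ResidueField R))) p 0 := by
  classical
  refine cdK_zero_of_degrees fun N _ _ _ _ hdvd => ?_
  let Ω := SeparableClosure (ResidueField R)
  let φ : N →ₐ[ResidueField R] Ω := IsSepClosed.lift
  let N' := IntermediateField.normalClosure (ResidueField R) N Ω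
  haveI : IsGalois (ResidueField R) N' := IsGalois.normalClosure (ResidueField R) N Ω
  have hdvd' : p ∣ Nat.card (N' ≃ₐ[ResidueField R] N') := by
    rw [IsGalois.card_aut_eq_finrank]
    refine hdvd.trans ?_
    rw [LinearEquiv.finrank_eq (AlgEquiv.ofInjectiveField φ).toLinearEquiv]
    exact IntermediateField.finrank_dvd_of_le_right (φ.fieldRange_le_normalClosure)
  obtain ⟨σ, hσ⟩ := exists_prime_orderOf_dvd_card' p hdvd'
  let L := IntermediateField.fixedField (Subgroup.zpowers σ)
  haveI : FiniteDimensional (ResidueField R) L := inferInstance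
  haveI : Algebra.IsSeparable (ResidueField R) L :=
    Algebra.isSeparable_tower_bot_of_isSeparable (ResidueField R) L N'
  have hdeg : Module.finrank L N' = p := by
    rw [IntermediateField.finrank_fixedField_eq_card, Nat.card_zpowers, hσ]
  obtain ⟨S, _, _, _, _, _, _, hinj, ⟨e⟩⟩ := exists_unramified R L
  let E := FractionRing S
  letI : Algebra K E := (IsFractionRing.lift (g := (algebraMap S E).comp (algebraMap R S))
    (fun a b h => hinj (IsFractionRing.injective S E h))).toAlgebra
  haveI : IsScalarTower R K E := IsScalarTower.of_algebraMap_eq fun a => by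
    show _ = IsFractionRing.lift _ (algebraMap R K a)
    rw [IsFractionRing.lift_algebraMap]
    exact IsScalarTower.algebraMap_apply R S E a
  haveI : Algebra.IsAlgebraic K E := ⟨fun y => by
    have key' : ∀ b : S, IsIntegral K (algebraMap S E b) := fun b =>
      (((Algebra.IsIntegral.isIntegral (R := R) b).map (IsScalarTower.toAlgHom R S E))).tower_top
    obtain ⟨a, b, hb, rfl⟩ := IsFractionRing.div_surjective S y
    rw [div_eq_mul_inv]
    exact ((key' a).isAlgebraic).mul (key' b).isAlgebraic.inv⟩
  have hpE : (p : E) ≠ 0 := by rw [← map_natCast (algebraMap K E)]; exact (_root_.map_ne_zero _).2 hpK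
  letI alg : Algebra (ResidueField S) N' := ((algebraMap L N').comp e.toRingHom).toAlgebra
  have he : (algebraMap L N').comp e.toRingHom = (RingEquiv.refl N').toRingHom.comp (algebraMap (ResidueField S) N') := rfl
  haveI : IsGalois (ResidueField S) N' := IsGalois.of_equiv_equiv (F := L) (E := N') (f := e.symm) (g := RingEquiv.refl N')
    (RingHom.ext fun x => by
      show algebraMap L N' (e (e.symm x)) = algebraMap L N' x
      rw [e.apply_symm_apply])
  haveI : FiniteDimensional (ResidueField S) N' := by
    haveI : IsScalarTower (ResidueField S) (ResidueField S) N' := inferInstance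
    exact Module.Finite.of_equiv_equiv (A₁ := L) (B₁ := N') e.symm (RingEquiv.refl N') (RingHom.ext fun x => by
      show algebraMap L N' (e (e.symm x)) = algebraMap L N' x
      rw [e.apply_symm_apply])
  refine false_of_galois S N' p ?_ (brP_of_cdK hpE (CdFieldLib.cdK_algebraic h))
  rw [← hdeg]
  exact Algebra.finrank_eq_of_equiv_equiv e (RingEquiv.refl N') (RingHom.ext fun x => rfl)

end HensDvrCdLib
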